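import Cfsg.Agent.H408.Pron.Gen
import Cfsg.Agent.H158.PronB
import Cfsg.Agent.H408.Pron.Defs
import Cfsg.Agent.FastGrp
import Cfsg.Agent.Prune
set_option linter.all false
prune_inst 0x7ffdbcfabdfcfddfffff7e7faffcdffdb9feffffffdff943ffe06bff9fbf0b8689c5fbaf8de0daff4ef7e29410b87b53ffffdfffea6bdc7ffffd5ff41ffbee1ff5f6b508119498341f342ffe83f07f8e7f3fffffffffffffffffffffffffffbeffffffffffff
open scoped Cfsg.Agent.FastGrp

-- part: H408/Pron/Frame
section
/-!
# The frame theorem (helper408)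

`K` contains the wreath product of `Q8` and a Sylow 2-subgroup of the symmetric group, `I` is a set of indices.
If no `ω_j`, no `ω_a ω_b` (`swap a b ∈ T`) lies in `K` (`j, a ∈ I`), and no frame reflection of `I` is
`K`-conjugate to a frame reflection outside of `I`, then `K` permutes the frame vectors of `I`.
-/

set_option autoImplicit false
set_option linter.unusedSectionVars false

namespace Cfsg.Agent.H408.Pron.Frame

open Quaternion Matrix Equiv
open Cfsg.Agent.H158.PronQ Cfsg.Agent.H158.PronMat Cfsg.Agent.H158.PronMono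
open Cfsg.Agent.H158.PronFrame Cfsg.Agent.H158.PronTwo Cfsg.Agent.H158.PronAvg
open Cfsg.Agent.H158.PronK Cfsg.Agent.H158.PronP Cfsg.Agent.H158.PronT Cfsg.Agent.H158.PronH
open Cfsg.Agent.H158.PronG Cfsg.Agent.H158.PronM2
open Cfsg.Agent.H408.Pron.Gen

variable {F : Type*} [Field F]

/-! ### two by two -/

/-- all reflections in the direction `(1, 1)` -/
theorem E_mem [Finite F] (h2 : (2 : F) ≠ 0) (hns : ¬ IsSquare (2 : F))
    {L : Subgroup (GU (Fin 2) F)} (h0 : ∀ w ∈ Q8 F, Rj 0 w ∈ L) (h1 : ∀ w ∈ Q8 F, Rj 1 w ∈ L)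
    {u : ℍ[F]} (hu : 2 * normSq u = 1)
    (hx : ip (fun a => (f2 : Fin 2 → ℍ[F]) a * u) (fun a => (f2 : Fin 2 → ℍ[F]) a * u) = 1)
    (hR : ∀ w ∈ Q8 F, R (fun a => f2 a * u) hx w ∈ L) : ∀ w ∈ Q8 F, E h2 w ∈ L := by
  obtain ⟨S, hS⟩ := exists_sylow_Q8 h2 hns
  have hQP : (S : Subgroup (U F)) ≤ L.comap (E h2) := by
    refine le_of_norm S (X := (Q8 F).map (cjq u 2 hu)) ?_ ?_ ?_ ?_
    · intro s hs x hx
      rw [hS] at hs
      show (E h2 (s * x * s⁻¹) :) ∈ L
      rw [← sc_E]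
      have h3 : sc s ∈ L := by rw [sc_eq_Rj]; exact mul_mem (h0 s hs) (h1 s hs)
      exact mul_mem (mul_mem h3 hx) (inv_mem h3)
    · rintro _ ⟨w, hw, rfl⟩
      show E h2 (cjq u 2 hu w) ∈ L
      rw [E, ← R_eq_RR h2 ip_f2 hu hx]
      exact hR w hw
    · exact Q8_isPGroup.map _
    · rw [hS, Subgroup.card_map_of_injective (cjq_injective u 2 hu)]
  rw [hS] at hQP
  exact hQP

theorem rf_f2 {u : ℍ[F]} (hu : 2 * normSq u = 1)
    (hx : ip (fun a => (f2 : Fin 2 → ℍ[F]) a * u) (fun a => (f2 : Fin 2 → ℍ[F]) a * u) = 1) (a b : Fin 2) :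
    (R (fun a => f2 a * u) hx nu).1 a b = (1 : Matrix (Fin 2) (Fin 2) ℍ[F]) a b - 1 := by
  rw [rf_apply]
  congr 1
  show 2 * ((1 * u) * star (1 * u)) = 1
  rw [one_mul, self_mul_star]
  have h1 : ((2 * normSq u : F) : ℍ[F]) = 1 := by rw [hu]; rfl
  rw [← h1, Quaternion.coe_mul]; rfl

/-- the frame reflection is conjugate to the reflection in the direction `(1, 1)` -/
theorem two_fuse [Finite F] (h2 : (2 : F) ≠ 0) (hns : ¬ IsSquare (2 : F))
    {L : Subgroup (GU (Fin 2) F)} (h0 : ∀ w ∈ Q8 F, Rj 0 w ∈ L) (h1 : ∀ w ∈ Q8 F, Rj 1 w ∈ L)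
    {u : ℍ[F]} (hu : 2 * normSq u = 1)
    (hx : ip (fun a => (f2 : Fin 2 → ℍ[F]) a * u) (fun a => (f2 : Fin 2 → ℍ[F]) a * u) = 1)
    (hR : ∀ w ∈ Q8 F, R (fun a => f2 a * u) hx w ∈ L) :
    ∃ l ∈ L, l * Rj 0 nu * l⁻¹ = R (fun a => f2 a * u) hx nu := by
  have hE := E_mem h2 hns h0 h1 hu hx hR
  have ht := two_half h2
  set! p : ℍ[F] := mkQ 2⁻¹ 2⁻¹ 0 0 with hp
  have hpN : 2 * normSq p = 1 := by
    rw [normSq_def']
    simp only [hp, mkQ_re, mkQ_imI, mkQ_imJ, mkQ_imK]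
    linear_combination (2 * (2 : F)⁻¹ + 1) * ht
  refine ⟨Rj 1 (uI)⁻¹ * E h2 uI, mul_mem (h1 _ (inv_mem uI_mem)) (hE _ uI_mem), ?_⟩
  have hvec : (Rj 1 (uI)⁻¹ * E h2 uI : GU (Fin 2) F).1 *ᵥ e 0 = fun a => (f2 : Fin 2 → ℍ[F]) a * p := by
    have e1 : (Rj 1 (uI)⁻¹ * E h2 uI : GU (Fin 2) F).1 = (Rj 1 (uI)⁻¹).1 * (E h2 uI).1 := rfl
    rw [e1, E_mat h2 uI (p := mkQ 2⁻¹ 2⁻¹ 0 0) (q := mkQ (-2⁻¹) 2⁻¹ 0 0)
      (by apply Quaternion.ext <;> simp only [_root_.Cfsg.Agent.H158.PronQ.coe_uI, _root_.smul_add, _root_.Quaternion.re_add, _root_.Quaternion.re_smul, _root_.Quaternion.re_one, _root_.smul_eq_mul, _root_.mul_one, _root_.Cfsg.Agent.H158.PronQ.qi_re, _root_.MulZeroClass.mul_zero, _root_.add_zero, _root_.Cfsg.Agent.H158.PronQ.mkQ_re, _root_.Quaternion.imI_add, _root_.Quaternion.imI_smul, _root_.Quaternion.imI_one, _root_.Cfsg.Agent.H158.PronQ.qi_imI, _root_.zero_add, _root_.Cfsg.Agent.H158.PronQ.mkQ_imI, _root_.Quaternion.imJ_add,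 _root_.Quaternion.imJ_smul, _root_.Quaternion.imJ_one, _root_.Cfsg.Agent.H158.PronQ.qi_imJ, _root_.Cfsg.Agent.H158.PronQ.mkQ_imJ, _root_.Quaternion.imK_add, _root_.Quaternion.imK_smul, _root_.Quaternion.imK_one, _root_.Cfsg.Agent.H158.PronQ.qi_imK, _root_.Cfsg.Agent.H158.PronQ.mkQ_imK]) (by apply Quaternion.ext <;> simp), Rj1_mat,
      Cfsg.Agent.H158.PronQ.coe_inv, coe_uI, star_qi, Matrix.mul_fin_two, mulVec_e]
    funext a
    show _ = 1 * p
    rw [one_mul]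
    fin_cases a
    · simp
    · apply Quaternion.ext <;> simp
  have hxp : ip (fun a => (f2 : Fin 2 → ℍ[F]) a * p) (fun a => (f2 : Fin 2 → ℍ[F]) a * p) = 1 := by
    rw [← hvec, ip_act, ip_e_e]
  generalize (Rj 1 (uI)⁻¹ * E h2 uI : GU (Fin 2) F) = l at hvec
  rw [Rj, R_conj l (e 0) (ip_e_e 0) (by rw [ip_act, ip_e_e])]
  rw [R_congr hvec _ hxp]
  apply Subtype.ext
  ext1 a b
  rw [rf_f2 hpN hxp, rf_f2 hu hx]

variable {n : Type*} [Fintype n] [DecidableEq n]

/-- The hypotheses of the frame theorem. -/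
structure Good (h2 : (2 : F) ≠ 0) (T : Sylow 2 (Perm n)) (K : Subgroup (GU n F)) (I : n → Prop) : Prop where
  sk : SG (Q8 F) (T : Subgroup (Perm n)) ≤ K
  h1 : ∀ j, I j → Rj j (om h2) ∉ K
  h3 : ∀ a b, a ≠ b → _root_.Equiv.swap a b ∈ (T : Subgroup (Perm n)) → I a → Rj a (om h2) * Rj b (om h2) ∉ K
  h4 : ∀ j a, I j → ¬ I a → ∀ k ∈ K, k * Rj j nu * k⁻¹ ≠ Rj a nu

/-- the vectors of the frame of `K` -/
def CV (K : Subgroup (GU n F)) (I : n → Prop) (x : n → ℍ[F]) : Prop :=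
  ∃ k ∈ K, ∃ j, I j ∧ x = k.1 *ᵥ e j

theorem CV.act {K : Subgroup (GU n F)} {I : n → Prop} {x : n → ℍ[F]} (hx : CV K I x) {g : GU n F}
    (hg : g ∈ K) : CV K I (g.1 *ᵥ x) := by
  obtain ⟨k, hk, j, hj, rfl⟩ := hx
  refine ⟨g * k, mul_mem hg hk, j, hj, ?_⟩
  rw [Matrix.mulVec_mulVec]; rfl

theorem CV_e {K : Subgroup (GU n F)} {I : n → Prop} {j : n} (hj : I j) : CV K I (e j) :=
  ⟨1, one_mem _, j, hj, (Matrix.one_mulVec _).symm⟩

theorem CV.unit {K : Subgroup (GU n F)} {I : n → Prop} {x : n → ℍ[F]} (hx : CV K I x) : ip x x = 1 := by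
  obtain ⟨k, hk, j, hj, rfl⟩ := hx
  rw [ip_act, ip_e_e]

theorem CV.InS {K : Subgroup (GU n F)} {I : n → Prop} {T : Subgroup (Perm n)} (hK : SG (Q8 F) T ≤ K)
    {x : n → ℍ[F]} (hx : CV K I x) : InS K x := by
  obtain ⟨k, hk, j, hj, rfl⟩ := hx
  exact (InS_e hK j).act hk

/-- a unit vector with one nonzero coordinate -/
theorem eq_smul {x : n → ℍ[F]} {hx : ip x x = 1} {j : n} (hj : ∀ a, a ≠ j → x a = 0) :
    ∃ u : U F, x = fun a => (e j : n → ℍ[F]) a * (u : ℍ[F]) := by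
  have h1 : normSq (x j) = 1 := by
    have := sum_normSq hx
    rw [Finset.sum_eq_single j] at this
    · exact this
    · intro b _ hb; rw [hj b hb, map_zero]
    · intro h; exact absurd (Finset.mem_univ _) h
  refine ⟨⟨x j, mem_U.2 h1⟩, ?_⟩
  funext a
  rw [e_mul_apply]
  split_ifs with h
  · rw [h]
  · exact hj a h

theorem R_nu_eq {x : n → ℍ[F]} {hx : ip x x = 1} {j : n} (hj : ∀ a, a ≠ j → x a = 0) :
    R x hx nu = Rj j nu := by
  obtain ⟨u, hu⟩ := eq_smul (hx := hx) hj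
  have h1 : ip (fun a => (e j : n → ℍ[F]) a * (u : ℍ[F])) (fun a => (e j : n → ℍ[F]) a * (u : ℍ[F])) = 1 :=
    ip_smul_unit (ip_e_e _) u
  rw [R_congr hu hx h1, R_smul (e j) (ip_e_e _) u h1, Rj]
  congr 1
  apply Subtype.ext
  rw [Submonoid.coe_mul, Submonoid.coe_mul, coe_nu, mul_neg, mul_one, neg_mul]
  congr 1
  exact congrArg Subtype.val (mul_inv_cancel u)

theorem conj_inj {G : Type*} [Group G] {a b x y : G} (h : a * x * a⁻¹ = b * y * b⁻¹) :
    (b⁻¹ * a) * x * (b⁻¹ * a)⁻¹ = y := by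
  have h1 : (b⁻¹ * a) * x * (b⁻¹ * a)⁻¹ = b⁻¹ * (a * x * a⁻¹) * b := by group
  rw [h1, h]; group

/-- `a q b = 0` for all `q`. -/
theorem sandwich_zero (h2 : (2 : F) ≠ 0) {a b : ℍ[F]}
    (h : ∀ q : ℍ[F], IsQ8 q → a * (q - 1) * b = 0) : a = 0 ∨ b = 0 := by
  have h0 : a * b = 0 := by
    have h1 := h (-1) (Or.inr (Or.inl rfl))
    have h3 : a * (-1 - 1) * b = -(2 * (a * b)) := by noncomm_ring
    rw [h3, neg_eq_zero] at h1
    exact two_ne h2 h1
  have hq : ∀ q : ℍ[F], IsQ8 q → a * q * b = 0 := by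
    intro q hq
    have h1 := h q hq
    have h3 : a * (q - 1) * b = a * q * b - a * b := by noncomm_ring
    rwa [h3, h0, sub_zero] at h1
  by_cases ha : a = 0
  · exact Or.inl ha
  · right
    have key : ∀ t : ℍ[F], (b * t).re = 0 := by
      intro t
      by_contra hne
      apply ha
      have h4 : b * t + qi * (b * t) * star qi + qj * (b * t) * star qj + qk * (b * t) * star qk =
          (((2 * (2 * (b * t).re) : F)) : ℍ[F]) := by
        apply Quaternion.ext <;> simp only [_root_.Cfsg.Agent.H158.PronQ.star_qi, _root_.mul_neg, _root_.Cfsg.Agent.H158.PronQ.star_qj, _root_.Cfsg.Agent.H158.PronQ.star_qk, _root_.Quaternion.re_add, _root_.Quaternion.re_mul, _root_.Quaternion.re_neg, _root_.Cfsg.Agent.H158.PronQ.qi_re, _root_.MulZeroClass.zero_mul, _root_.Cfsg.Agent.H158.PronQ.qi_imI, _root_.Quaternion.imI_mul, _root_.one_mul, _root_.zero_sub, _root_.neg_sub, _root_.Cfsg.Agent.H158.PronQ.qi_imJ, _root_.Quaternion.imJ_mul,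 _root_.sub_zero, _root_.Cfsg.Agent.H158.PronQ.qi_imK, _root_.Quaternion.imK_mul, _root_.MulZeroClass.mul_zero, _root_.zero_add, _root_.add_zero, _root_.mul_one, _root_.neg_add_rev, _root_.Cfsg.Agent.H158.PronQ.qj_re, _root_.Cfsg.Agent.H158.PronQ.qj_imI, _root_.sub_self, _root_.Cfsg.Agent.H158.PronQ.qj_imJ, _root_.Cfsg.Agent.H158.PronQ.qj_imK, _root_.Cfsg.Agent.H158.PronQ.qk_re, _root_.Cfsg.Agent.H158.PronQ.qk_imI, _root_.Cfsg.Agent.H158.PronQ.qk_imJ, _root_.Cfsg.Agent.H158.PronQ.qk_imK, _root_.Quaternion.coe_mul, _root_.Quaternion.coe_sub, _root_.Quaternion.re_coe, _root_.Quaternion.re_sub, _root_.Quaternion.imI_coe, _root_.Quaternion.imJ_coe, _root_.Quaternion.imK_coe, _root_.Quaternion.imI_sub, _root_.Quaternion.imJ_sub, _root_.Quaternion.imK_sub, _root_.Quaternion.imI_add, _root_.Quaternion.imI_neg, _root_.Quaternion.imJ_add, _root_.Quaternion.imJ_neg, _root_.add_add_neg_add_cancel, _root_.sub_add_sub_cancel, _root_.neg_neg,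 _root_.Quaternion.imK_add, _root_.Quaternion.imK_neg] <;> ring
      have h5 : a * (b * t + qi * (b * t) * star qi + qj * (b * t) * star qj + qk * (b * t) * star qk) = 0 := by
        have e0 : a * (b * t + qi * (b * t) * star qi + qj * (b * t) * star qj + qk * (b * t) * star qk) =
            (a * b) * t + (a * qi * b) * (t * star qi) + (a * qj * b) * (t * star qj) +
              (a * qk * b) * (t * star qk) := by noncomm_ring
        rw [e0, h0, hq _ (Or.inr (Or.inr (Or.inl rfl))), hq _ (Or.inr (Or.inr (Or.inr (Or.inr (Or.inl rfl))))),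
          hq _ (Or.inr (Or.inr (Or.inr (Or.inr (Or.inr (Or.inr (Or.inl rfl)))))))]
        simp only [_root_.MulZeroClass.zero_mul, _root_.Cfsg.Agent.H158.PronQ.star_qi, _root_.mul_neg, _root_.neg_zero, _root_.add_zero, _root_.Cfsg.Agent.H158.PronQ.star_qj, _root_.Cfsg.Agent.H158.PronQ.star_qk]
      rw [h4, Quaternion.mul_coe_eq_smul] at h5
      exact (smul_eq_zero.1 h5).resolve_left (mul_ne_zero h2 (mul_ne_zero h2 hne))
    have k0 := key 1
    have k1 := key qi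
    have k2 := key qj
    have k3 := key qk
    rw [mul_one] at k0
    simp at k1 k2 k3
    apply Quaternion.ext <;> simp [k0, k1, k2, k3]

section Main

variable [Finite F] {h2 : (2 : F) ≠ 0} (hns : ¬ IsSquare (2 : F)) {T : Sylow 2 (Perm n)}
  {K : Subgroup (GU n F)} {I : n → Prop} (hG : Good h2 T K I)

include hns hG

/-- A reflection of the frame of `K` lying in the wreath product is a frame reflection. -/
theorem f1 {x : n → ℍ[F]} (hx : ip x x = 1) (hxC : CV K I x)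
    (hz : R x hx nu ∈ SG (Q8 F) (T : Subgroup (Perm n))) : ∃ j, I j ∧ ∀ a, a ≠ j → x a = 0 := by
  obtain ⟨k, hk, j₀, hj₀, hxk⟩ := id hxC
  have hkz : k * Rj j₀ nu * k⁻¹ = R x hx nu := by
    rw [Rj, R_conj k (e j₀) (ip_e_e _) (by rw [ip_act, ip_e_e])]
    exact R_congr hxk.symm _ _ _
  rcases rf_mem_SG h2 hz with ⟨j, hj⟩ | ⟨a, b, hab, hsw, -, hzero, hb, w, hw, ha⟩
  · refine ⟨j, ?_, hj⟩
    by_contra hjI
    apply hG.h4 j₀ j hj₀ hjI k hk
    rw [hkz, R_nu_eq hj]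
  · exfalso
    have hSK := hG.sk
    -- move `x` to `(u, u)`
    set! v : U F := nu * w⁻¹ with hv
    have hvQ : v ∈ Q8 F := mul_mem (Or.inr (Or.inl rfl)) (inv_mem hw)
    have hvK : Rj a v ∈ K := hSK (Rj_mem _ a hvQ)
    have hInS : InS K ((Rj a v).1 *ᵥ x) := (hxC.InS hSK).act hvK
    have hX := Xab_unit (F := F) hab
    have hy : (Rj a v).1 *ᵥ x = Xab a b *ᵥ (fun k => (f2 : Fin 2 → ℍ[F]) k * x b) := by
      rw [Rj_mulVec, Xab_mulVec]
      funext c
      show _ = e a c * (1 * x b) + e b c * (1 * x b)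
      rw [one_mul, e_mul_apply, e_mul_apply]
      by_cases hca : c = a
      · subst hca
        rw [if_pos rfl, if_pos rfl, if_neg hab, add_zero, ha]
        have h3 : (v : ℍ[F]) = -star (w : ℍ[F]) := by
          rw [hv, Submonoid.coe_mul, coe_nu, Cfsg.Agent.H158.PronQ.coe_inv]; noncomm_ring
        rw [h3, neg_mul_neg, ← mul_assoc, Unitary.coe_star_mul_self, one_mul]
      · rw [if_neg hca, if_neg hca, zero_add]
        by_cases hcb : c = b
        · rw [if_pos hcb, hcb]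
        · rw [if_neg hcb, hzero c hca hcb]
    have hRv : ∀ h5 : ip ((Rj a v).1 *ᵥ x) ((Rj a v).1 *ᵥ x) = 1,
        Rj a v * R x hx nu * (Rj a v)⁻¹ = R ((Rj a v).1 *ᵥ x) h5 nu := fun h5 => R_conj _ x hx h5 nu
    obtain ⟨hy1', hy2'⟩ := hInS
    have hy1 : ip (Xab a b *ᵥ (fun k => (f2 : Fin 2 → ℍ[F]) k * x b))
        (Xab a b *ᵥ (fun k => (f2 : Fin 2 → ℍ[F]) k * x b)) = 1 := by rw [← hy]; exact hy1'
    have hy2 : ∀ w ∈ Q8 F, R (Xab a b *ᵥ (fun k => (f2 : Fin 2 → ℍ[F]) k * x b)) hy1 w ∈ K := by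
      intro w hw
      rw [← R_congr hy hy1' hy1]
      exact hy2' w hw
    have hf : ip (fun k => (f2 : Fin 2 → ℍ[F]) k * x b) (fun k => (f2 : Fin 2 → ℍ[F]) k * x b) = 1 := by
      rw [← ip_Phi hX]; exact hy1
    have h0' : ∀ w : U F, Phi (Xab a b) hX (Rj 0 w) = Rj a w := by
      intro w
      have hXe : (Xab a b : Matrix n (Fin 2) ℍ[F]) *ᵥ e 0 = e a := by
        rw [Xab_mulVec]
        funext c
        have e0 : (e 0 : Fin 2 → ℍ[F]) 0 = 1 := by rw [e, Pi.single_eq_same]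
        have e1 : (e 0 : Fin 2 → ℍ[F]) 1 = 0 := by rw [e, Pi.single_eq_of_ne (by decide)]
        rw [e0, e1, mul_one, mul_zero, add_zero]
      rw [Rj, Phi_R hX _ _ (by rw [hXe]; exact ip_e_e a), Rj]
      exact R_congr hXe _ _ _
    have h1' : ∀ w : U F, Phi (Xab a b) hX (Rj 1 w) = Rj b w := by
      intro w
      have hXe : (Xab a b : Matrix n (Fin 2) ℍ[F]) *ᵥ e 1 = e b := by
        rw [Xab_mulVec]
        funext c
        have e0 : (e 1 : Fin 2 → ℍ[F]) 1 = 1 := by rw [e, Pi.single_eq_same]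
        have e1 : (e 1 : Fin 2 → ℍ[F]) 0 = 0 := by rw [e, Pi.single_eq_of_ne (by decide)]
        rw [e0, e1, mul_one, mul_zero, zero_add]
      rw [Rj, Phi_R hX _ _ (by rw [hXe]; exact ip_e_e b), Rj]
      exact R_congr hXe _ _ _
    have g0 : ∀ w ∈ Q8 F, Rj 0 w ∈ K.comap (Phi (Xab a b) hX) := fun w hw => by
      show Phi (Xab a b) hX (Rj 0 w) ∈ K
      rw [h0']; exact hSK (Rj_mem _ a hw)
    have g1 : ∀ w ∈ Q8 F, Rj 1 w ∈ K.comap (Phi (Xab a b) hX) := fun w hw => by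
      show Phi (Xab a b) hX (Rj 1 w) ∈ K
      rw [h1']; exact hSK (Rj_mem _ b hw)
    have g2 : ∀ w ∈ Q8 F, R _ hf w ∈ K.comap (Phi (Xab a b) hX) := fun w hw => by
      show Phi (Xab a b) hX (R _ hf w) ∈ K
      rw [Phi_R hX _ hf hy1]; exact hy2 w hw
    by_cases haI : I a
    · have hL := two_by_two h2 hns (L := K.comap (Phi (Xab a b) hX)) g0 g1 hb hf g2
      have h5 : Phi (Xab a b) hX (sc (om h2)) = Rj a (om h2) * Rj b (om h2) := by
        rw [sc_eq_Rj, map_mul, h0', h1']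
      apply hG.h3 a b hab hsw haI
      rw [← h5]
      exact hL
    · obtain ⟨l, hl, hle⟩ := two_fuse h2 hns (L := K.comap (Phi (Xab a b) hX)) g0 g1 hb hf g2
      have hl' : Phi (Xab a b) hX l ∈ K := hl
      have h6 : Phi (Xab a b) hX l * Rj a nu * (Phi (Xab a b) hX l)⁻¹ =
          Rj a v * R x hx nu * (Rj a v)⁻¹ := by
        rw [← h0', ← map_inv, ← map_mul, ← map_mul, hle, Phi_R hX _ hf hy1, hRv hy1']
        exact R_congr hy.symm _ _ _
      have h7 : Rj a v * R x hx nu * (Rj a v)⁻¹ = (Rj a v * k) * Rj j₀ nu * (Rj a v * k)⁻¹ := by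
        rw [← hkz]; group
      rw [h7] at h6
      have h8 := conj_inj h6.symm
      exact hG.h4 j₀ a hj₀ haI _ (mul_mem (inv_mem hl') (mul_mem hvK hk)) h8

/-- Two reflections of the frame of `K` lying in a common 2-subgroup commute. -/
theorem f2' {x y : n → ℍ[F]} (hx : ip x x = 1) (hxC : CV K I x) (hy : ip y y = 1) (hyC : CV K I y)
    {Q : Subgroup (GU n F)} (hQK : Q ≤ K) (hQ : IsPGroup 2 Q) (hxQ : R x hx nu ∈ Q)
    (hyQ : R y hy nu ∈ Q) : ip x y = 0 ∨ y = fun a => x a * ip x y := by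
  obtain ⟨S, hS⟩ := exists_sylow_gen h2 hns T
  obtain ⟨c, hc, hcQ⟩ := conj_into S (hS ▸ hG.sk) hQK hQ
  rw [hS] at hcQ
  have hx' := hxC.act hc
  have hy' := hyC.act hc
  have hx1 := hx'.unit
  have hy1 := hy'.unit
  have h3 := hcQ _ hxQ
  rw [R_conj c x hx hx1] at h3
  have h4 := hcQ _ hyQ
  rw [R_conj c y hy hy1] at h4
  obtain ⟨j, -, hj⟩ := f1 hns hG hx1 hx' h3
  obtain ⟨k, -, hk⟩ := f1 hns hG hy1 hy' h4
  have h5 : ip x y = star ((c.1 *ᵥ x) j) * (c.1 *ᵥ y) j := by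
    rw [← ip_act c]
    unfold ip
    refine Finset.sum_eq_single j (fun a _ ha => ?_) (fun h => absurd (Finset.mem_univ _) h)
    rw [hj a ha, star_zero, zero_mul]
  by_cases hjk : j = k
  · right
    subst hjk
    have h6 : (c.1 *ᵥ x) j * star ((c.1 *ᵥ x) j) = 1 := by
      have h7 : ip (c.1 *ᵥ x) (c.1 *ᵥ x) = star ((c.1 *ᵥ x) j) * (c.1 *ᵥ x) j := by
        unfold ip
        refine Finset.sum_eq_single j (fun a _ ha => ?_) (fun h => absurd (Finset.mem_univ _) h)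
        rw [hj a ha, star_zero, zero_mul]
      rw [hx1, star_mul_self] at h7
      rw [self_mul_star]; exact h7.symm
    have h8 : c.1 *ᵥ y = c.1 *ᵥ (fun a => x a * ip x y) := by
      rw [mulVec_smul_right]
      funext a
      by_cases ha : a = j
      · subst ha
        rw [h5, ← mul_assoc, h6, one_mul]
      · rw [hj a ha, hk a ha, zero_mul]
    have h9 := congrArg (fun v => (c.1)ᴴ *ᵥ v) h8
    simp only [Matrix.mulVec_mulVec, star_mul_coe, Matrix.one_mulVec] at h9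
    exact h9
  · left
    rw [h5, hk j hjk, mul_zero]

/-- `K` contains no transvection with a nonzero coordinate in `I`. -/
theorem no_transvection {x : n → ℍ[F]} (hx : ip x x = 1) {h : U F}
    (hN : normSq ((h : ℍ[F]) - 1) = 0) {j : n} (hjI : I j) (hj : x j * ((h : ℍ[F]) - 1) ≠ 0) :
    R x hx h ∉ K := by
  intro htK
  set m : ℍ[F] := (h : ℍ[F]) - 1 with hm
  have hm0 : m.re = 0 := by
    rw [hm]
    have := re_eq_one h2 hN
    simp [this]
  have hmm : m * m = 0 := null_sq hm0 hN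
  have hms : star m = -m := pure_star hm0
  set! nj : ℍ[F] := x j * m * star (x j) with hnj
  have hnj0 : nj ≠ 0 := fun h0 => hj (mul_eq_zero_of_conj h2 hm0 hN h0)
  have hnjre : nj.re = 0 := by rw [hnj, re_conj_q, hm0, mul_zero]
  have hnjN : normSq nj = 0 := by rw [hnj, map_mul, map_mul, hN, mul_zero, zero_mul]
  have hipxe : ip x (e j) = star (x j) := by rw [← star_ip, ip_e]
  -- the element `y`
  have hzK : Rj j nu ∈ K := hG.sk (Rj_mem _ j (Or.inr (Or.inl rfl)))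
  set! y : GU n F := R x hx h * (Rj j nu * R x hx h * (Rj j nu)⁻¹) with hy
  have hyK : y ∈ K := mul_mem htK (mul_mem (mul_mem hzK htK) (inv_mem hzK))
  have hnorm1 : normSq ((1 : ℍ[F]) + 2 * nj) = 1 := by
    apply normSq_one_add
    · simp [hnjre]
    · rw [map_mul, hnjN, mul_zero]
  set! hj' : U F := ⟨1 + 2 * nj, mem_U.2 hnorm1⟩ with hhj
  have hye : y.1 *ᵥ e j = fun a => (e j : n → ℍ[F]) a * (hj' : ℍ[F]) := by
    rw [hy, ye_eq hx hmm j]
  -- `hj'` normalizes `P`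
  have hconj : ∀ a : U F, y * Rj j a * y⁻¹ = Rj j (hj' * a * hj'⁻¹) := by
    intro a
    rw [Rj, R_conj y (e j) (ip_e_e j) (by rw [ip_act, ip_e_e])]
    rw [R_congr hye _ (ip_smul_unit (ip_e_e _) hj')]
    rw [R_smul (e j) (ip_e_e _) hj' (ip_smul_unit (ip_e_e _) hj')]
  have hP : Q8 F ≤ K.comap (Rj j) := fun w hw => hG.sk (Rj_mem _ j hw)
  have homP : om h2 ∉ K.comap (Rj j) := hG.h1 j hjI
  have hj1 : hj' ≠ 1 := by
    intro h0
    have h3 : (1 : ℍ[F]) + 2 * nj = 1 := congrArg Subtype.val h0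
    exact hnj0 (two_ne h2 (by simpa only [_root_.add_eq_left] using h3))
  have hjN : normSq ((hj' : ℍ[F]) - 1) = 0 := by
    show normSq ((1 : ℍ[F]) + 2 * nj - 1) = 0
    rw [add_sub_cancel_left, map_mul, hnjN, mul_zero]
  obtain ⟨hPQ, h30, -, f1, f3, f4⟩ := unipotent_case h2 hns hP homP hjN hj1 (by
    intro a ha
    show (Rj j (hj' * a * hj'⁻¹) :) ∈ K
    rw [← hconj]
    exact mul_mem (mul_mem hyK ha) (inv_mem hyK))
  have g1 : (hj' : ℍ[F]).imI = 2 * nj.imI := by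
    show ((1 : ℍ[F]) + 2 * nj).imI = _
    simp
  rw [g1] at f1
  -- the second transvection
  have hvK : Rj j uI ∈ K := hP uI_mem
  set! x' : n → ℍ[F] := (Rj j uI).1 *ᵥ x with hx'
  have hx'1 : ip x' x' = 1 := by rw [hx', ip_act, hx]
  have ht'K : ∀ v : U F, R x hx v ∈ K → R x' hx'1 v ∈ K := by
    intro v hv
    have h3 : Rj j uI * R x hx v * (Rj j uI)⁻¹ = R x' hx'1 v := R_conj _ x hx hx'1 v
    rw [← h3]
    exact mul_mem (mul_mem hvK hv) (inv_mem hvK)
  have hx'a : x' = fun a => if a = j then qi * x j else x a := by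
    rw [hx', Rj_mulVec]
    funext a
    split_ifs with ha
    · rw [ha]; rfl
    · rfl
  have hipx : (2 * (ip x' x * m).re) = 2 * nj.imI := by
    rw [← star_ip, hx'a, ip_change, hx]
    have h3 : star ((1 : ℍ[F]) + star (x j) * (qi * x j - x j)) * m =
        m + star (qi * x j - x j) * (x j * m) := by
      rw [star_add, star_mul, star_star, star_one]; noncomm_ring
    rw [h3]
    have h4 : (star (qi * x j - x j) * (x j * m)).re = ((x j * m) * star (qi * x j - x j)).re := by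
      simp only [_root_.star_sub, _root_.StarMul.star_mul, _root_.Cfsg.Agent.H158.PronQ.star_qi, _root_.mul_neg, _root_.Quaternion.re_mul, _root_.Quaternion.re_sub, _root_.Quaternion.re_neg, _root_.Quaternion.re_star, _root_.Cfsg.Agent.H158.PronQ.qi_re, _root_.MulZeroClass.mul_zero, _root_.Quaternion.imI_star, _root_.Cfsg.Agent.H158.PronQ.qi_imI, _root_.mul_one, _root_.sub_neg_eq_add, _root_.zero_add, _root_.Quaternion.imJ_star, _root_.Cfsg.Agent.H158.PronQ.qi_imJ, _root_.sub_zero, _root_.Quaternion.imK_star, _root_.Cfsg.Agent.H158.PronQ.qi_imK, _root_.Quaternion.imI_sub, _root_.Quaternion.imI_neg, _root_.Quaternion.imI_mul, _root_.add_zero, _root_.Quaternion.imJ_sub, _root_.Quaternion.imJ_neg, _root_.Quaternion.imJ_mul, _root_.sub_self, _root_.neg_neg, _root_.Quaternion.imK_sub, _root_.Quaternion.imK_neg, _root_.Quaternion.imK_mul]; ring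
    have h5 : (x j * m) * star (qi * x j - x j) = nj * (star qi - 1) := by
      rw [star_sub, star_mul, hnj]; noncomm_ring
    rw [Quaternion.re_add, h4, h5, hm0]
    simp [hnjre]
  -- choose the sign
  have hsign : ∃ ε : F, (ε = 1 ∨ ε = -1) ∧ ε * (2 * nj.imI) = -1 := by
    rcases mul_self_eq_one_iff.1 f1 with h3 | h3
    · exact ⟨-1, Or.inr rfl, by rw [h3]; ring⟩
    · exact ⟨1, Or.inl rfl, by rw [h3]; ring⟩
  obtain ⟨ε, hε, hε2⟩ := hsign
  obtain ⟨v, hvmem, hv⟩ : ∃ v : U F, R x' hx'1 v ∈ K ∧ (v : ℍ[F]) = 1 + ε • m := by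
    rcases hε with rfl | rfl
    · exact ⟨h, ht'K h htK, by rw [one_smul, hm]; abel⟩
    · refine ⟨h⁻¹, ?_, ?_⟩
      · rw [map_inv]; exact inv_mem (ht'K h htK)
      · rw [Cfsg.Agent.H158.PronQ.coe_inv]
        have h3 : (h : ℍ[F]) = 1 + m := by rw [hm]; abel
        rw [h3, star_add, star_one, hms, neg_smul, one_smul]
  set! x'' : n → ℍ[F] := (R x' hx'1 v).1 *ᵥ x with hx''
  have hx''1 : ip x'' x'' = 1 := by rw [hx'', ip_act, hx]
  have ht'' : R x'' hx''1 h ∈ K := by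
    have h3 := mul_mem (mul_mem hvmem htK) (inv_mem hvmem)
    rwa [R_conj (R x' hx'1 v) x hx hx''1 h] at h3
  have hx''m : ∀ a, x'' a * m = (if a = j then (1 - qi) * x j else 0) * m := by
    intro a
    have h3 : x'' a = x a + x' a * (ε • m * ip x' x) := by
      rw [hx'', R_mulVec, hv, add_sub_cancel_left]
    have h4 : m * ip x' x * m = (2 * nj.imI) • m := by
      rw [sandwich, hN, zero_smul, sub_zero, hipx]
    have h5 : x'' a * m = x a * m - x' a * m := by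
      rw [h3, add_mul]
      have h6 : x' a * (ε • m * ip x' x) * m = x' a * (ε • (m * ip x' x * m)) := by
        rw [smul_mul_assoc, mul_assoc, smul_mul_assoc]
      rw [h6, h4, smul_smul, hε2, neg_smul, one_smul]; noncomm_ring
    rw [h5, hx'a]
    by_cases ha : a = j
    · subst ha
      simp only [if_true]
      noncomm_ring
    · simp only [if_neg ha]
      noncomm_ring
  set! d : ℍ[F] := (1 - qi) * nj * (1 + qi) with hd
  have hdre : d.re = 0 := by rw [hd]; simp only [hnjre, _root_.Quaternion.re_mul, _root_.Quaternion.re_sub, _root_.Quaternion.re_one, _root_.Cfsg.Agent.H158.PronQ.qi_re, _root_.sub_zero, _root_.MulZeroClass.mul_zero, _root_.Quaternion.imI_sub, _root_.Quaternion.imI_one, _root_.Cfsg.Agent.H158.PronQ.qi_imI, _root_.zero_sub, _root_.neg_mul, _root_.one_mul, _root_.sub_neg_eq_add, _root_.zero_add, _root_.Quaternion.imJ_sub, _root_.Quaternion.imJ_one, _root_.Cfsg.Agent.H158.PronQ.qi_imJ, _root_.sub_self,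 _root_.MulZeroClass.zero_mul, _root_.Quaternion.imK_sub, _root_.Quaternion.imK_one, _root_.Cfsg.Agent.H158.PronQ.qi_imK, _root_.Quaternion.re_add, _root_.add_zero, _root_.mul_one, _root_.Quaternion.imI_mul, _root_.Quaternion.imI_add, _root_.Quaternion.imJ_mul, _root_.Quaternion.imJ_add, _root_.Quaternion.imK_mul, _root_.Quaternion.imK_add]
  have hdN : normSq d = 0 := by rw [hd, map_mul, map_mul, hnjN, mul_zero, zero_mul]
  have hd1 : normSq ((1 : ℍ[F]) + d) = 1 := normSq_one_add hdre hdN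
  set! a₀ : U F := ⟨1 + d, mem_U.2 hd1⟩ with ha₀
  have hRj : R x'' hx''1 h = Rj j a₀ := by
    apply Subtype.ext
    rw [coe_R, Rj, coe_R]
    congr 1
    ext1 b c
    rw [tv_apply, tv_apply, ← hm, hx''m b, e_mul_apply]
    have h3 : ∀ c, m * star (x'' c) = m * star (if c = j then (1 - qi) * x j else 0) := by
      intro c
      have h4 := congrArg star (hx''m c)
      rw [star_mul, star_mul, hms, neg_mul, neg_mul, neg_inj] at h4
      exact h4
    rw [mul_assoc, h3 c, ha₀]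
    show _ = (if b = j then (1 + d) - 1 else 0) * _
    rw [add_sub_cancel_left]
    by_cases hb : b = j
    · rw [if_pos hb, if_pos hb]
      by_cases hc : c = j
      · subst hc
        rw [if_pos rfl, e, Pi.single_eq_same, star_one, mul_one, hd, hnj, star_mul, star_sub,
          star_one, star_qi]
        noncomm_ring
      · rw [if_neg hc, e, Pi.single_eq_of_ne hc, star_zero]
        simp
    · rw [if_neg hb, if_neg hb, zero_mul, zero_mul]
  rw [hRj] at ht''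
  have hQ : IsQ8 ((1 : ℍ[F]) + d) := hPQ ht''
  have key : ∀ q : ℍ[F], IsQ8 q → q.re * q.imI = 0 := by
    rintro q (h | h | h | h | h | h | h | h) <;> subst h <;> simp
  have h3 := key _ hQ
  have h4 : d.imI = 2 * nj.imI := by rw [hd]; simp only [_root_.Quaternion.imI_mul, _root_.Quaternion.re_mul, _root_.Quaternion.re_sub, _root_.Quaternion.re_one, _root_.Cfsg.Agent.H158.PronQ.qi_re, _root_.sub_zero, _root_.one_mul, _root_.Quaternion.imI_sub, _root_.Quaternion.imI_one, _root_.Cfsg.Agent.H158.PronQ.qi_imI, _root_.zero_sub, _root_.neg_mul, _root_.sub_neg_eq_add, _root_.Quaternion.imJ_sub, _root_.Quaternion.imJ_one, _root_.Cfsg.Agent.H158.PronQ.qi_imJ, _root_.sub_self, _root_.MulZeroClass.zero_mul, _root_.Quaternion.imK_sub, _root_.Quaternion.imK_one, _root_.Cfsg.Agent.H158.PronQ.qi_imK, _root_.Quaternion.imI_add, _root_.zero_add, _root_.mul_one, _root_.add_zero, _root_.Quaternion.re_add, _root_.Quaternion.imJ_mul, _root_.Quaternion.imK_add,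 _root_.MulZeroClass.mul_zero, _root_.Quaternion.imK_mul, _root_.Quaternion.imJ_add]; ring
  simp only [Quaternion.re_add, Quaternion.imI_add, hdre, Quaternion.re_one, Quaternion.imI_one,
    h4] at h3
  rw [add_zero, one_mul, zero_add] at h3
  rw [h3] at f1
  simp at f1

/-- A coordinate in `I` of a vector of the frame of `K` is zero or of norm 1. -/
theorem claim_e {j : n} (hjI : I j) {y : n → ℍ[F]} (hy : CV K I y) (h0 : y j ≠ 0) :
    normSq (y j) = 1 := by
  by_contra hN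
  have hx : CV K I (e j : n → ℍ[F]) := CV_e hjI
  set x : n → ℍ[F] := e j with hxe
  have hx1 : ip x x = 1 := hx.unit
  have hy1 := hy.unit
  have hxK : ∀ w ∈ Q8 F, R x hx1 w ∈ K := (hx.InS hG.sk).choose_spec
  have hyK : ∀ w ∈ Q8 F, R y hy1 w ∈ K := (hy.InS hG.sk).choose_spec
  set! c := ip x y with hc
  have hcj : c = y j := ip_e j y
  rw [← hcj] at h0 hN
  set! ν : F := 1 - normSq c with hν
  have hν0 : ν ≠ 0 := fun h => hN (sub_eq_zero.1 h).symm
  obtain ⟨l, hl⟩ := exists_normSq (F := F) ν⁻¹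
  have hlN : (l * star l : ℍ[F]) = ((ν⁻¹ : F) : ℍ[F]) := by rw [self_mul_star, hl]
  have hlN' : (star l * l : ℍ[F]) = ((ν⁻¹ : F) : ℍ[F]) := by rw [star_mul_self, hl]
  set! l' : ℍ[F] := star l * ((ν : F) : ℍ[F]) with hl'
  have hll' : l * l' = 1 := by
    rw [hl', ← mul_assoc, hlN, ← Quaternion.coe_mul, inv_mul_cancel₀ hν0, Quaternion.coe_one]
  set! y' : n → ℍ[F] := y - fun a => x a * c with hy'
  have hyx : ip y x = star c := by rw [← star_ip]
  have hxy' : ip x y' = 0 := by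
    rw [hy', ip_sub_right, ip_smul_right, hx1, one_mul, ← hc, sub_self]
  have hyy' : ip y y' = ((ν : F) : ℍ[F]) := by
    rw [hy', ip_sub_right, ip_smul_right, hy1, hyx, star_mul_self, hν, Quaternion.coe_sub,
      Quaternion.coe_one]
  have hy'y' : ip y' y' = ((ν : F) : ℍ[F]) := by
    have h3 : ip (fun a => x a * c) y' = 0 := by rw [ip_smul_left, hxy', mul_zero]
    have h4 : ip y' y' = ip y y' - ip (fun a => x a * c) y' := by
      conv_lhs => rw [hy', ip_sub_left]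
    rw [h4, hyy', h3, sub_zero]
  set! y'' : n → ℍ[F] := fun a => y' a * l with hy''
  have hxy'' : ip x y'' = 0 := by rw [hy'', ip_smul_right, hxy', zero_mul]
  have hy''1 : ip y'' y'' = 1 := by
    rw [hy'', ip_smul_left, ip_smul_right, hy'y', ← mul_assoc, ← Quaternion.coe_commutes,
      mul_assoc, hlN', ← Quaternion.coe_mul, mul_inv_cancel₀ hν0, Quaternion.coe_one]
  have hX := Xc_unit hx1 hy''1 hxy''
  set! η : Fin 2 → ℍ[F] := ![c, l'] with hηdef
  have hXη : Xc x y'' *ᵥ η = y := by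
    rw [Xc_mulVec]
    funext a
    show x a * c + y' a * l * l' = y a
    rw [mul_assoc, hll', mul_one, hy', Pi.sub_apply]
    abel
  have hη : ip η η = 1 := by rw [← ip_Phi hX, hXη, hy1]
  set! φ := Phi (Xc x y'') hX with hφ
  have hφ0 : ∀ w, φ (Rj 0 w) = R x hx1 w := by
    intro w
    rw [hφ, Rj, Phi_R hX _ _ (by rw [Xc_e0]; exact hx1)]
    exact R_congr (Xc_e0 _ _) _ _ _
  have hφη : ∀ w, φ (R η hη w) = R y hy1 w := by
    intro w
    rw [hφ, Phi_R hX _ _ (by rw [hXη]; exact hy1)]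
    exact R_congr hXη _ _ _
  have hnu : (nu : U F) ∈ Q8 F := Or.inr (Or.inl rfl)
  obtain ⟨i, h, hh1, hhN, hhL⟩ := two_dim h2 (L := K.comap φ) hη
    (fun w hw => by show φ (Rj 0 w) ∈ K; rw [hφ0]; exact hxK w hw)
    (by show φ (R η hη nu) ∈ K; rw [hφη]; exact hyK nu hnu)
    (by
      intro g hg Q hQL hQ hzQ hgQ
      have hgK : φ g ∈ K := hg
      have huC := hx.act hgK
      have hu1 := huC.unit
      have e1 : (φ g).1 *ᵥ x = Xc x y'' *ᵥ (g.1 *ᵥ e 0) := by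
        conv_lhs => rw [← Xc_e0 x y'', hφ]
        exact Phi_mulVec hX g (e 0)
      have e2 : ip x ((φ g).1 *ᵥ x) = g.1 0 0 := by
        have h3 : ip (Xc x y'' *ᵥ e 0) (Xc x y'' *ᵥ (g.1 *ᵥ e 0)) = ip (e 0) (g.1 *ᵥ e 0) :=
          ip_Phi hX _ _
        have h4 : ip (e 0) (g.1 *ᵥ e 0) = g.1 0 0 := by rw [ip_e, mulVec_e]
        rw [Xc_e0, ← e1, h4] at h3
        exact h3
      have e3 : R ((φ g).1 *ᵥ x) hu1 nu = φ (g * z * g⁻¹) := by
        rw [map_mul, map_mul, map_inv, hφ0, R_conj (φ g) x hx1 hu1]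
      have h5 := f2' hns hG hx1 hx hu1 huC (Q := Q.map φ)
        (by rintro _ ⟨q, hq, rfl⟩; exact hQL hq) (hQ.map φ)
        ⟨z, hzQ, hφ0 nu⟩ ⟨_, hgQ, e3.symm⟩
      rw [e2] at h5
      rcases h5 with h5 | h5
      · left; exact h5
      · right
        have h6 := congrArg (fun v => (Xc x y'')ᴴ *ᵥ v) h5
        have h7 : (fun a => x a * g.1 0 0) = Xc x y'' *ᵥ (fun a => (e 0 : Fin 2 → ℍ[F]) a * g.1 0 0) := by
          rw [mulVec_smul_right, Xc_e0]
        rw [e1, h7] at h6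
        simp only [Matrix.mulVec_mulVec, hX, Matrix.one_mulVec] at h6
        have h8 : (Xc x y'')ᴴ * (Xc x y'' * g.1) = g.1 := by
          rw [← Matrix.mul_assoc, hX, Matrix.one_mul]
        rw [h8] at h6
        have h9 := congrFun h6 1
        rw [mulVec_e] at h9
        rw [e_mul_apply, if_neg (by decide)] at h9
        exact h9)
    (by
      intro Q hQL hQ hzQ hηQ
      have h5 := f2' hns hG hx1 hx hy1 hy (Q := Q.map φ)
        (by rintro _ ⟨q, hq, rfl⟩; exact hQL hq) (hQ.map φ)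
        ⟨z, hzQ, hφ0 nu⟩ ⟨_, hηQ, hφη nu⟩
      rcases h5 with h5 | h5
      · exact h0 h5
      · apply hN
        have h6 : ip y y = star c * c := by
          conv_lhs => rw [h5]
          rw [← hc, ip_smul_left, ip_smul_right, hx1, one_mul]
        rw [hy1, star_mul_self] at h6
        have h7 := congrArg (fun q : ℍ[F] => q.re) h6
        simpa using h7.symm)
  have hhK : φ (Rj i h) ∈ K := hhL
  have hXi : ip (Xc x y'' *ᵥ e i) (Xc x y'' *ᵥ e i) = 1 := by rw [ip_Phi hX, ip_e_e]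
  rw [hφ, Rj, Phi_R hX _ _ hXi] at hhK
  set! m : ℍ[F] := (h : ℍ[F]) - 1 with hm; rewrite [← hm] at hhN
  have hm0 : m ≠ 0 := fun h0 => hh1 (Subtype.ext (sub_eq_zero.1 h0))
  fin_cases i
  · -- the transvection is `R x h`
    have e1 : R (Xc x y'' *ᵥ e 0) hXi h = R x hx1 h := R_congr (Xc_e0 x y'') _ _ _
    have h3 : R x hx1 h ∈ K := by rw [← e1]; exact hhK
    refine no_transvection hns hG hx1 hhN hjI ?_ h3
    rw [hxe, e, Pi.single_eq_same, one_mul]
    exact hm0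
  · -- the transvection is `R y'' h`
    have e2 : (Xc x y'' *ᵥ e 1) = y'' := by
      rw [Xc_mulVec]
      funext c
      have e0 : (e 1 : Fin 2 → ℍ[F]) 0 = 0 := by rw [e, Pi.single_eq_of_ne (by decide)]
      have e1 : (e 1 : Fin 2 → ℍ[F]) 1 = 1 := by rw [e, Pi.single_eq_same]
      rw [e0, e1, mul_one, mul_zero, zero_add]
    have e1 : R (Xc x y'' *ᵥ e 1) hXi h = R y'' hy''1 h := R_congr e2 _ _ _
    have h3 : R y'' hy''1 h ∈ K := by rw [← e1]; exact hhK
    have hy''j : y'' j = 0 := by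
      have : ip x y'' = y'' j := ip_e j y''
      rw [← this, hxy'']
    have hyy'' : ip y y'' = ((ν : F) : ℍ[F]) * l := by rw [hy'', ip_smul_right, hyy']
    have key : ∀ q : ℍ[F], IsQ8 q → c * (q - 1) * (((ν : F) : ℍ[F]) * l * m) = 0 := by
      intro q hq
      by_contra hne
      set! q' : U F := ⟨q, mem_U.2 hq.normSq⟩ with hq'
      have hq'Q : q' ∈ Q8 F := hq
      have hqK : R y hy1 q' ∈ K := hyK q' hq'Q
      have hz1 : ip ((R y hy1 q').1 *ᵥ y'') ((R y hy1 q').1 *ᵥ y'') = 1 := by rw [ip_act, hy''1]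
      have hzK : R ((R y hy1 q').1 *ᵥ y'') hz1 h ∈ K := by
        rw [← R_conj (R y hy1 q') y'' hy''1 hz1 h]
        exact mul_mem (mul_mem hqK h3) (inv_mem hqK)
      refine no_transvection hns hG hz1 hhN hjI ?_ hzK
      rw [R_mulVec, ← hm]
      show (y'' j + y j * ((q - 1) * ip y y'')) * m ≠ 0
      rw [hy''j, zero_add, ← hcj, hyy'']
      intro h5
      apply hne
      rw [← h5]
      noncomm_ring
    rcases sandwich_zero h2 key with h5 | h5
    · exact h0 h5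
    · have h6 : ((ν : F) : ℍ[F]) * (l * m) = 0 := by rw [← mul_assoc]; exact h5
      rw [Quaternion.coe_mul_eq_smul] at h6
      have h7 := (smul_eq_zero.1 h6).resolve_left hν0
      have h8 : normSq l ≠ 0 := by rw [hl]; exact inv_ne_zero hν0
      exact hm0 (mul_eq_zero_left h8 h7)

/-- Two vectors of the frame of `K` are orthogonal, or their product has norm 1. -/
theorem claim_g {x y : n → ℍ[F]} (hx : CV K I x) (hy : CV K I y) (h0 : ip x y ≠ 0) :
    normSq (ip x y) = 1 := by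
  obtain ⟨k, hk, j, hj, rfl⟩ := hx
  have h1 : ip (k.1 *ᵥ e j) y = ((k⁻¹).1 *ᵥ y) j := by
    rw [← ip_e j ((k⁻¹).1 *ᵥ y), ← ip_act k (e j), Matrix.mulVec_mulVec]
    have : k.1 * (k⁻¹).1 = 1 := by rw [coe_inv_GU, coe_mul_star]
    rw [this, Matrix.one_mulVec]
  rw [h1] at h0 ⊢
  exact claim_e hns hG hj (hy.act (inv_mem hk)) h0

/-- All coordinates have norm 0 or 1. -/
theorem norm_coord {y : n → ℍ[F]} (hy : CV K I y) (a : n) : normSq (y a) = 0 ∨ normSq (y a) = 1 := by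
  have hyy := hy.unit
  have hgK : Rj a uI ∈ K := hG.sk (Rj_mem _ a uI_mem)
  have h1 := hy.act hgK
  have h3 : (Rj a uI).1 *ᵥ y = fun b => if b = a then qi * y a else y b := by
    rw [Rj_mulVec]
    funext b
    split_ifs with hb
    · rw [hb]; rfl
    · rfl
  set! N := normSq (y a) with hN; rewrite [← hN]
  set! s : ℍ[F] := star (y a) * qi * y a with hs
  have hs0 : s.re = 0 := by rw [hs]; simp only [_root_.Quaternion.re_mul, _root_.Quaternion.re_star, _root_.Cfsg.Agent.H158.PronQ.qi_re, _root_.MulZeroClass.mul_zero, _root_.Quaternion.imI_star, _root_.Cfsg.Agent.H158.PronQ.qi_imI, _root_.mul_one, _root_.sub_neg_eq_add, _root_.zero_add, _root_.Quaternion.imJ_star, _root_.Cfsg.Agent.H158.PronQ.qi_imJ, _root_.sub_zero, _root_.Quaternion.imK_star, _root_.Cfsg.Agent.H158.PronQ.qi_imK, _root_.Quaternion.imI_mul, _root_.add_zero, _root_.Quaternion.imJ_mul, _root_.sub_self, _root_.neg_mul, _root_.Quaternion.imK_mul]; ring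
  have hqi : normSq (qi : ℍ[F]) = 1 := by rw [normSq_def']; simp
  have hsN : normSq s = N * N := by rw [hs, map_mul, map_mul, normSq_star, hqi, mul_one]
  have h4 : ip y ((Rj a uI).1 *ᵥ y) = (1 - ((N : F) : ℍ[F])) + s := by
    rw [h3, ip_change, hyy, mul_sub, star_mul_self, ← mul_assoc, ← hs, ← hN]
    abel
  by_cases h0 : ip y ((Rj a uI).1 *ᵥ y) = 0
  · right
    rw [h4] at h0
    have h5 := congrArg (fun q : ℍ[F] => q.re) h0
    simp [hs0] at h5
    linear_combination -h5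
  · have h5 := claim_g hns hG hy h1 h0
    rw [h4] at h5
    have h6 : normSq ((1 - ((N : F) : ℍ[F])) + s) = (1 - N) * (1 - N) + normSq s := by
      rw [normSq_def', normSq_def']
      simp only [hs0, _root_.Quaternion.re_add, _root_.Quaternion.re_sub, _root_.Quaternion.re_one, _root_.Quaternion.re_coe, _root_.add_zero, _root_.Quaternion.imI_add, _root_.Quaternion.imI_sub, _root_.Quaternion.imI_one, _root_.Quaternion.imI_coe, _root_.sub_self, _root_.zero_add, _root_.Quaternion.imJ_add, _root_.Quaternion.imJ_sub, _root_.Quaternion.imJ_one, _root_.Quaternion.imJ_coe, _root_.Quaternion.imK_add, _root_.Quaternion.imK_sub, _root_.Quaternion.imK_one, _root_.Quaternion.imK_coe, _root_.ne_eq, _root_.OfNat.ofNat_ne_zero, _root_.not_false_eq_true, _root_.zero_pow]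
      ring
    rw [h6, hsN] at h5
    have h7 : (2 : F) * (N * (N - 1)) = 0 := by linear_combination h5
    rcases mul_eq_zero.1 ((mul_eq_zero.1 h7).resolve_left h2) with h8 | h8
    · left; exact h8
    · right; exact sub_eq_zero.1 h8

/-- At most one coordinate has norm 1. -/
theorem norm_unique {y : n → ℍ[F]} (hy : CV K I y) {j k : n} (Nj : normSq (y j) = 1)
    (Nk : normSq (y k) = 1) : k = j := by
  by_contra hkj
  have hyy := hy.unit
  have key : ∀ w ∈ Q8 F, star (y j) * qi * y j + star (y k) * (w : ℍ[F]) * y k - 1 ≠ 0 →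
      normSq (star (y j) * qi * y j + star (y k) * (w : ℍ[F]) * y k - 1) = 1 := by
    intro w hw h0
    have hg : Rj j uI * Rj k w ∈ K := mul_mem (hG.sk (Rj_mem _ j uI_mem)) (hG.sk (Rj_mem _ k hw))
    have h1 := hy.act hg
    have h3 : (Rj j uI * Rj k w).1 *ᵥ y = fun a => if a = j then qi * y j else
        (fun a => if a = k then (w : ℍ[F]) * y k else y a) a := by
      have h4 : (Rj j uI * Rj k w).1 = (Rj j uI).1 * (Rj k w).1 := rfl
      rw [h4, ← Matrix.mulVec_mulVec, Rj_mulVec, Rj_mulVec]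
      funext a
      by_cases haj : a = j
      · subst haj
        rw [if_pos rfl, if_pos rfl]
        simp only [if_neg (Ne.symm hkj)]
        rfl
      · rw [if_neg haj, if_neg haj]
        by_cases hak : a = k
        · subst hak; rfl
        · simp only [if_neg hak]
    have h4 : ip y ((Rj j uI * Rj k w).1 *ᵥ y) =
        star (y j) * qi * y j + star (y k) * (w : ℍ[F]) * y k - 1 := by
      rw [h3, ip_change, ip_change, hyy]
      simp only [if_neg (Ne.symm hkj)]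
      have e1 : star (y j) * y j = 1 := by rw [star_mul_self, Nj, Quaternion.coe_one]
      have e2 : star (y k) * y k = 1 := by rw [star_mul_self, Nk, Quaternion.coe_one]
      rw [mul_sub, mul_sub, e1, e2]
      noncomm_ring
    have h5 := claim_g hns hG hy h1 (by rw [h4]; exact h0)
    rwa [h4] at h5
  set u : ℍ[F] := star (y j) * qi * y j with hu
  set! v : ℍ[F] := star (y k) * qi * y k with hv
  have hre : ∀ x : ℍ[F], (star x * qi * x).re = 0 := by
    intro x; simp only [_root_.Quaternion.re_mul, _root_.Quaternion.re_star, _root_.Cfsg.Agent.H158.PronQ.qi_re, _root_.MulZeroClass.mul_zero, _root_.Quaternion.imI_star, _root_.Cfsg.Agent.H158.PronQ.qi_imI, _root_.mul_one, _root_.sub_neg_eq_add, _root_.zero_add, _root_.Quaternion.imJ_star, _root_.Cfsg.Agent.H158.PronQ.qi_imJ, _root_.sub_zero, _root_.Quaternion.imK_star, _root_.Cfsg.Agent.H158.PronQ.qi_imK, _root_.Quaternion.imI_mul, _root_.add_zero, _root_.Quaternion.imJ_mul,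 _root_.sub_self, _root_.neg_mul, _root_.Quaternion.imK_mul]; ring
  have hure : u.re = 0 := hre _
  have hvre : v.re = 0 := hre _
  have hqi : normSq (qi : ℍ[F]) = 1 := by rw [normSq_def']; simp
  have hNu : normSq u = 1 := by rw [hu, map_mul, map_mul, normSq_star, Nj, hqi, one_mul, one_mul]
  have hNv : normSq v = 1 := by rw [hv, map_mul, map_mul, normSq_star, Nk, hqi, one_mul, one_mul]
  have k1 := key uI uI_mem (by
    intro h0
    have h1 := congrArg (fun q : ℍ[F] => q.re) h0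
    have h3 : ((uI : U F) : ℍ[F]) = qi := rfl
    rw [h3, ← hv] at h1
    simp only [Quaternion.re_sub, Quaternion.re_add, hure, hvre, Quaternion.re_one,
      Quaternion.re_zero] at h1
    rw [add_zero, zero_sub, neg_eq_zero] at h1
    exact one_ne_zero h1)
  have k2 := key (nu * uI) (mul_mem (Or.inr (Or.inl rfl)) uI_mem) (by
    intro h0
    have h1 := congrArg (fun q : ℍ[F] => q.re) h0
    have h3 : ((nu * uI : U F) : ℍ[F]) = -qi := by
      show (-1 : ℍ[F]) * qi = -qi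
      rw [neg_one_mul]
    have h4 : star (y k) * -qi * y k = -v := by rw [hv]; noncomm_ring
    rw [h3, h4] at h1
    simp only [Quaternion.re_sub, Quaternion.re_add, Quaternion.re_neg, hure, hvre,
      Quaternion.re_one, Quaternion.re_zero] at h1
    rw [neg_zero, add_zero, zero_sub, neg_eq_zero] at h1
    exact one_ne_zero h1)
  have h3 : ((uI : U F) : ℍ[F]) = qi := rfl
  have h3' : ((nu * uI : U F) : ℍ[F]) = -qi := by
    show (-1 : ℍ[F]) * qi = -qi
    rw [neg_one_mul]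
  have h4 : star (y k) * -qi * y k = -v := by rw [hv]; noncomm_ring
  rw [h3, ← hv] at k1
  rw [h3', h4] at k2
  rw [normSq_def'] at hNu hNv k1 k2
  rw [hure] at hNu
  rw [hvre] at hNv
  simp only [Quaternion.re_sub, Quaternion.re_add, Quaternion.re_neg, Quaternion.imI_sub,
    Quaternion.imI_add, Quaternion.imI_neg, Quaternion.imJ_sub, Quaternion.imJ_add,
    Quaternion.imJ_neg, Quaternion.imK_sub, Quaternion.imK_add, Quaternion.imK_neg, hure, hvre,
    Quaternion.re_one, Quaternion.imI_one, Quaternion.imJ_one, Quaternion.imK_one] at k1 k2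
  have h5 : (2 : F) * 2 = 0 := by linear_combination k1 + k2 - 2 * hNu - 2 * hNv
  rcases mul_eq_zero.1 h5 with h | h <;> exact h2 h

/-- The null coordinates vanish. -/
theorem null_coord {y : n → ℍ[F]} (hy : CV K I y) {c a : n} (hca : a ≠ c) (Nc : normSq (y c) = 1)
    (Na : normSq (y a) = 0) : y a = 0 := by
  have hyy := hy.unit
  have hyK : ∀ w ∈ Q8 F, R y hyy w ∈ K := (hy.InS hG.sk).choose_spec
  set u := y c with hu
  have huu : u * star u = 1 := by rw [self_mul_star, Nc, Quaternion.coe_one]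
  have huu' : star u * u = 1 := by rw [star_mul_self, Nc, Quaternion.coe_one]
  have haa : star (y a) * y a = 0 := by rw [star_mul_self, Na, Quaternion.coe_zero]
  -- the norm of the `c`-th coordinate
  have step : ∀ q q' : ℍ[F], IsQ8 q → IsQ8 q' →
      normSq (q' * u + 2 * (u * (star (y a) * q * y a))) = 0 ∨
        normSq (q' * u + 2 * (u * (star (y a) * q * y a))) = 1 := by
    intro q q' hq hq'
    set! v : U F := ⟨q, mem_U.2 hq.normSq⟩ with hv
    set! v' : U F := ⟨q', mem_U.2 hq'.normSq⟩ with hv'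
    have hg : Rj c v' * Rj a v ∈ K :=
      mul_mem (hG.sk (Rj_mem _ c (show v' ∈ Q8 F from hq'))) (hG.sk (Rj_mem _ a (show v ∈ Q8 F from hq)))
    have hzK : R y hyy nu ∈ K := hyK nu (Or.inr (Or.inl rfl))
    have h3 : (Rj c v' * Rj a v).1 *ᵥ y = fun b => if b = c then q' * u else
        (fun b => if b = a then q * y a else y b) b := by
      have h4 : (Rj c v' * Rj a v).1 = (Rj c v').1 * (Rj a v).1 := rfl
      rw [h4, ← Matrix.mulVec_mulVec, Rj_mulVec, Rj_mulVec]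
      funext b
      by_cases hbc : b = c
      · subst hbc
        rw [if_pos rfl, if_pos rfl]
        simp only [if_neg (Ne.symm hca)]
        rfl
      · rw [if_neg hbc, if_neg hbc]
        by_cases hba : b = a
        · subst hba; rfl
        · simp only [if_neg hba]
    have h4 : ip y ((Rj c v' * Rj a v).1 *ᵥ y) = star u * q' * u + star (y a) * q * y a := by
      rw [h3, ip_change, ip_change, hyy]
      simp only [if_neg (Ne.symm hca)]
      rw [mul_sub, mul_sub, ← hu, huu', haa]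
      noncomm_ring
    have h5 := (hy.act hg).act hzK
    have h6 : ((R y hyy nu).1 *ᵥ ((Rj c v' * Rj a v).1 *ᵥ y)) c =
        -(q' * u + 2 * (u * (star (y a) * q * y a))) := by
      rw [R_mulVec, h4, coe_nu]
      have h7 : ((Rj c v' * Rj a v).1 *ᵥ y) c = q' * u := by rw [h3]; simp
      show ((Rj c v' * Rj a v).1 *ᵥ y) c + y c * _ = _
      rw [h7, ← hu]
      have h8 : u * ((-1 - 1) * (star u * q' * u + star (y a) * q * y a)) =
          -(2 * ((u * star u) * q' * u)) - 2 * (u * (star (y a) * q * y a)) := by noncomm_ring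
      rw [h8, huu]
      noncomm_ring
    have h7 := norm_coord hns hG h5 c
    rw [h6, normSq_neg] at h7
    exact h7
  -- hence `s = 0`
  have hs : ∀ q : ℍ[F], IsQ8 q → star (y a) * q * y a = 0 := by
    intro q hq
    set! s : ℍ[F] := star (y a) * q * y a with hs; rewrite [← hs]
    have hsN : normSq s = 0 := by rw [hs, map_mul, map_mul, normSq_star, Na, zero_mul, zero_mul]
    set! t : ℍ[F] := u * s * star u with ht
    have key : ∀ q' : ℍ[F], IsQ8 q' → (star q' * t).re = 0 := by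
      intro q' hq'
      have k1 := step q q' hq hq'
      have k2 := step q (-q') hq hq'.neg
      rw [← hs] at k1 k2
      have hA : normSq (q' * u) = 1 := by rw [map_mul, hq'.normSq, Nc, mul_one]
      have hB : normSq (2 * (u * s)) = 0 := by rw [map_mul, map_mul, hsN, mul_zero, mul_zero]
      have hpar : normSq (q' * u + 2 * (u * s)) + normSq (-q' * u + 2 * (u * s)) = 2 := by
        have e1 : normSq (q' * u + 2 * (u * s)) + normSq (-q' * u + 2 * (u * s)) =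
            2 * normSq (q' * u) + 2 * normSq (2 * (u * s)) := by
          rw [neg_mul]
          generalize q' * u = A
          generalize 2 * (u * s) = B
          rw [normSq_def', normSq_def', normSq_def', normSq_def']
          simp only [_root_.Quaternion.re_add, _root_.Quaternion.imI_add, _root_.Quaternion.imJ_add, _root_.Quaternion.imK_add, _root_.Quaternion.re_neg, _root_.Quaternion.imI_neg, _root_.Quaternion.imJ_neg, _root_.Quaternion.imK_neg]
          ring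
        rw [e1, hA, hB]; ring
      have k3 : normSq (q' * u + 2 * (u * s)) = 1 := by
        rcases k1 with k1 | k1
        · exfalso
          rw [k1, zero_add] at hpar
          rcases k2 with k2 | k2
          · rw [k2] at hpar; exact h2 hpar.symm
          · rw [k2] at hpar
            have : (1 : F) = 0 := by linear_combination -hpar
            exact one_ne_zero this
        · exact k1
      have e2 : normSq (q' * u + 2 * (u * s)) = normSq (q' * u) + normSq (2 * (u * s)) +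
          2 * (2 * (star (q' * u) * (u * s)).re) := by
        generalize q' * u = A
        generalize u * s = B
        rw [normSq_def', normSq_def', normSq_def']
        simp only [_root_.Quaternion.re_add, _root_.Quaternion.re_mul, _root_.Cfsg.Agent.H158.PronT.two_re, _root_.Cfsg.Agent.H158.PronT.two_imI, _root_.MulZeroClass.zero_mul, _root_.sub_zero, _root_.Cfsg.Agent.H158.PronT.two_imJ, _root_.Cfsg.Agent.H158.PronT.two_imK, _root_.Quaternion.imI_add, _root_.Quaternion.imI_mul, _root_.add_zero, _root_.Quaternion.imJ_add, _root_.Quaternion.imJ_mul, _root_.Quaternion.imK_add, _root_.Quaternion.imK_mul, _root_.Quaternion.re_star, _root_.Quaternion.imI_star, _root_.neg_mul, _root_.sub_neg_eq_add, _root_.Quaternion.imJ_star, _root_.Quaternion.imK_star]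
        ring
      rw [e2, hA, hB] at k3
      have e3 : (2 : F) * (2 * (star (q' * u) * (u * s)).re) = 0 := by linear_combination k3
      have e4 := (mul_eq_zero.1 ((mul_eq_zero.1 e3).resolve_left h2)).resolve_left h2
      have e5 : (star (q' * u) * (u * s)).re = (star q' * t).re := by
        rw [ht, star_mul, mul_assoc, ← mul_assoc (star q') (u * s) (star u)]
        generalize star q' * (u * s) = A
        simp only [_root_.Quaternion.re_mul, _root_.Quaternion.re_star, _root_.Quaternion.imI_star, _root_.neg_mul, _root_.sub_neg_eq_add, _root_.Quaternion.imJ_star, _root_.Quaternion.imK_star, _root_.mul_neg]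
        ring
      rw [e5] at e4
      exact e4
    have k0 := key 1 (Or.inl rfl)
    have k1 := key qi (Or.inr (Or.inr (Or.inl rfl)))
    have k2 := key qj (Or.inr (Or.inr (Or.inr (Or.inr (Or.inl rfl)))))
    have k3 := key qk (Or.inr (Or.inr (Or.inr (Or.inr (Or.inr (Or.inr (Or.inl rfl)))))))
    have ht0 : t = 0 := by
      rw [star_one, one_mul] at k0
      simp only [_root_.Cfsg.Agent.H158.PronQ.star_qi, _root_.neg_mul, _root_.Quaternion.re_neg, _root_.Quaternion.re_mul, _root_.Cfsg.Agent.H158.PronQ.qi_re, _root_.MulZeroClass.zero_mul, _root_.Cfsg.Agent.H158.PronQ.qi_imI, _root_.one_mul, _root_.zero_sub, _root_.Cfsg.Agent.H158.PronQ.qi_imJ, _root_.sub_zero, _root_.Cfsg.Agent.H158.PronQ.qi_imK, _root_.neg_neg, _root_.Cfsg.Agent.H158.PronQ.star_qj, _root_.Cfsg.Agent.H158.PronQ.qj_re, _root_.Cfsg.Agent.H158.PronQ.qj_imI, _root_.sub_self, _root_.Cfsg.Agent.H158.PronQ.qj_imJ, _root_.Cfsg.Agent.H158.PronQ.qj_imK, _root_.Cfsg.Agent.H158.PronQ.star_qk,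 _root_.Cfsg.Agent.H158.PronQ.qk_re, _root_.Cfsg.Agent.H158.PronQ.qk_imI, _root_.Cfsg.Agent.H158.PronQ.qk_imJ, _root_.Cfsg.Agent.H158.PronQ.qk_imK] at k1 k2 k3
      apply Quaternion.ext <;> simp [k0, k1, k2, k3]
    have e1 : star u * t * u = s := by
      have : star u * t * u = (star u * u) * s * (star u * u) := by rw [ht]; noncomm_ring
      rw [this, huu', one_mul, mul_one]
    rw [← e1, ht0, mul_zero, zero_mul]
  have h0 := hs 1 (Or.inl rfl)
  rw [mul_one] at h0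
  exact eq_zero_of_sandwich h2 h0 (hs qi (Or.inr (Or.inr (Or.inl rfl))))
    (hs qj (Or.inr (Or.inr (Or.inr (Or.inr (Or.inl rfl))))))
    (hs qk (Or.inr (Or.inr (Or.inr (Or.inr (Or.inr (Or.inr (Or.inl rfl))))))))

/-- **The frame theorem.** -/
theorem frame {y : n → ℍ[F]} (hy : CV K I y) : ∃ j, I j ∧ ∀ a, a ≠ j → y a = 0 := by
  have hyy := hy.unit
  obtain ⟨c, hc⟩ : ∃ c, normSq (y c) = 1 := by
    by_contra hcon
    push Not at hcon
    have h1 := sum_normSq hyy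
    rw [Finset.sum_eq_zero (fun a _ => (norm_coord hns hG hy a).resolve_right (hcon a))] at h1
    exact zero_ne_one h1
  have hz : ∀ a, a ≠ c → y a = 0 := by
    intro a hac
    refine null_coord hns hG hy hac hc ?_
    rcases norm_coord hns hG hy a with h | h
    · exact h
    · exact absurd (norm_unique hns hG hy hc h) hac
  refine ⟨c, ?_, hz⟩
  by_contra hcI
  obtain ⟨k, hk, j₀, hj₀, hxk⟩ := hy
  apply hG.h4 j₀ c hj₀ hcI k hk
  rw [Rj, R_conj k (e j₀) (ip_e_e _) (by rw [ip_act, ip_e_e]), R_congr hxk.symm _ hyy, R_nu_eq hz, Rj]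

end Main

end Cfsg.Agent.H408.Pron.Frame
end

-- part: H408/Pron/PermL
section
/-!
# The Sylow 2-subgroup of the symmetric group on `α ⊕ β`, `|α| = 2^a`, `|β| = 2^b` (helper408)
-/

set_option autoImplicit false
set_option linter.unusedSectionVars false

namespace Cfsg.Agent.H408.Pron.PermL

open Equiv

/-- Two 2-subgroups of `C ≤ K` can be conjugated simultaneously into `S`. -/
theorem two_into {G : Type*} [Group G] [Finite G] (S : Sylow 2 G) {K C A B : Subgroup G}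
    (hSK : (S : Subgroup G) ≤ K) (hCK : C ≤ K) (hA : A ≤ C) (hB : B ≤ C) (hA2 : IsPGroup 2 A)
    (hB2 : IsPGroup 2 B) : ∃ k ∈ K, ∃ c ∈ C, (∀ a ∈ A, k * a * k⁻¹ ∈ (S : Subgroup G)) ∧
      ∀ b ∈ B, (k * c) * b * (k * c)⁻¹ ∈ (S : Subgroup G) := by
  have hA1 : IsPGroup 2 (A.subgroupOf C) := hA2.comap_of_injective C.subtype C.subtype_injective
  have hB1 : IsPGroup 2 (B.subgroupOf C) := hB2.comap_of_injective C.subtype C.subtype_injective
  obtain ⟨R, hR⟩ := hA1.exists_le_sylow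
  obtain ⟨R', hR'⟩ := hB1.exists_le_sylow
  obtain ⟨c, hc⟩ := MulAction.exists_smul_eq C R' R
  have hRK : (R : Subgroup C).map C.subtype ≤ K := by
    rintro _ ⟨x, hx, rfl⟩
    exact hCK x.2
  obtain ⟨k, hk, hkR⟩ := Cfsg.Agent.H158.PronK.conj_into S hSK hRK (R.isPGroup'.map _)
  refine ⟨k, hk, c, c.2, fun a ha => ?_, fun b hb => ?_⟩
  · exact hkR a ⟨⟨a, hA ha⟩, hR ha, rfl⟩
  · have h1 : (⟨b, hB hb⟩ : C) ∈ (R' : Subgroup C) := hR' hb
    have h2 : c * ⟨b, hB hb⟩ * c⁻¹ ∈ (R : Subgroup C) := by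
      rw [← hc, Sylow.coe_subgroup_smul, Subgroup.mem_pointwise_smul_iff_inv_smul_mem]
      have h0 : (MulAut.conj c)⁻¹ • (c * (⟨b, hB hb⟩ : C) * c⁻¹) = ⟨b, hB hb⟩ := by
        rw [← map_inv, MulAut.smul_def, MulAut.conj_apply, inv_inv]
        group
      rw [h0]
      exact h1
    have h3 := hkR _ ⟨_, h2, rfl⟩
    have h4 : k * c * b * (k * c)⁻¹ = k * (c * b * (c : G)⁻¹) * k⁻¹ := by group
    rw [h4]
    exact h3

variable {α β : Type*} [Fintype α] [DecidableEq α] [Fintype β] [DecidableEq β]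

/-- The product of `T₁` and `T₂` acting on the disjoint union. -/
def TT (T₁ : Subgroup (Perm α)) (T₂ : Subgroup (Perm β)) : Subgroup (Perm (α ⊕ β)) :=
  (T₁.prod T₂).map (Perm.sumCongrHom α β)

theorem mem_TT {T₁ : Subgroup (Perm α)} {T₂ : Subgroup (Perm β)} {p : Perm α} {q : Perm β}
    (hp : p ∈ T₁) (hq : q ∈ T₂) : Perm.sumCongrHom α β (p, q) ∈ TT T₁ T₂ :=
  ⟨(p, q), ⟨hp, hq⟩, rfl⟩

theorem exists_of_mem_TT {T₁ : Subgroup (Perm α)} {T₂ : Subgroup (Perm β)} {σ : Perm (α ⊕ β)}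
    (h : σ ∈ TT T₁ T₂) : ∃ p ∈ T₁, ∃ q ∈ T₂, (∀ x, σ (Sum.inl x) = Sum.inl (p x)) ∧
      ∀ y, σ (Sum.inr y) = Sum.inr (q y) := by
  obtain ⟨⟨p, q⟩, ⟨hp, hq⟩, rfl⟩ := h
  exact ⟨p, hp, q, hq, fun _ => rfl, fun _ => rfl⟩

theorem TT_isPGroup {T₁ : Subgroup (Perm α)} {T₂ : Subgroup (Perm β)} (h1 : IsPGroup 2 T₁)
    (h2 : IsPGroup 2 T₂) : IsPGroup 2 (TT T₁ T₂) := by
  apply IsPGroup.map
  rintro ⟨⟨p, q⟩, hp, hq⟩
  obtain ⟨k, hk⟩ := h1 ⟨p, hp⟩
  obtain ⟨l, hl⟩ := h2 ⟨q, hq⟩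
  have hk' : p ^ 2 ^ k = 1 := congrArg Subtype.val hk
  have hl' : q ^ 2 ^ l = 1 := congrArg Subtype.val hl
  refine ⟨k + l, Subtype.ext ?_⟩
  show ((p, q) : Perm α × Perm β) ^ 2 ^ (k + l) = 1
  rw [Prod.pow_mk, Prod.mk_eq_one]
  constructor
  · rw [pow_add, pow_mul, hk', one_pow]
  · rw [pow_add, mul_comm, pow_mul, hl', one_pow]

theorem two_pow_ne {a b k : ℕ} (hab : a ≠ b) : 2 ^ a + 2 ^ b ≠ 2 ^ k := by
  wlog h : b < a generalizing a b
  · rw [add_comm]
    exact this hab.symm (by omega)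
  intro he
  obtain ⟨c, rfl⟩ : ∃ c, a = b + (c + 1) := ⟨a - b - 1, by omega⟩
  have h1 : 2 ^ b * (2 ^ (c + 1) + 1) = 2 ^ k := by rw [← he, pow_add]; ring
  have h3 : (2 ^ (c + 1) + 1) ∣ 2 ^ k := ⟨2 ^ b, by rw [← h1]; ring⟩
  obtain ⟨d, -, hd⟩ := (Nat.dvd_prime_pow Nat.prime_two).1 h3
  rcases d with _ | d
  · rw [pow_zero] at hd
    have := Nat.one_le_two_pow (n := c + 1)
    omega
  · rw [pow_succ, pow_succ] at hd
    omega

section

variable {T₁ : Sylow 2 (Perm α)} {T₂ : Sylow 2 (Perm β)} {a b : ℕ}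

/-- `TT T₁ T₂` is a Sylow 2-subgroup. -/
theorem exists_sylow_TT (hα : Fintype.card α = 2 ^ a) (hβ : Fintype.card β = 2 ^ b) (hab : a ≠ b)
    (T₁ : Sylow 2 (Perm α)) (T₂ : Sylow 2 (Perm β)) :
    ∃ T : Sylow 2 (Perm (α ⊕ β)), (T : Subgroup (Perm (α ⊕ β))) =
      TT (T₁ : Subgroup (Perm α)) (T₂ : Subgroup (Perm β)) := by
  obtain ⟨P, hP⟩ := (TT_isPGroup T₁.isPGroup' T₂.isPGroup').exists_le_sylow
  refine ⟨P, le_antisymm ?_ hP⟩
  have ht1 := Cfsg.Agent.H158.PronB.sylow_transitive hα T₁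
  have ht2 := Cfsg.Agent.H158.PronB.sylow_transitive hβ T₂
  have hl : ∀ x x' : α, ∃ τ ∈ (P : Subgroup (Perm (α ⊕ β))), τ (Sum.inl x) = Sum.inl x' := by
    intro x x'
    obtain ⟨τ, hτ, h⟩ := ht1 x x'
    exact ⟨_, hP (mem_TT hτ (one_mem _)), congrArg Sum.inl h⟩
  have hr : ∀ y y' : β, ∃ τ ∈ (P : Subgroup (Perm (α ⊕ β))), τ (Sum.inr y) = Sum.inr y' := by
    intro y y'
    obtain ⟨τ, hτ, h⟩ := ht2 y y'
    exact ⟨_, hP (mem_TT (one_mem _) hτ), congrArg Sum.inr h⟩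
  -- `P` preserves the fibres
  have hno : ∀ τ ∈ (P : Subgroup (Perm (α ⊕ β))), ∀ x y, τ (Sum.inl x) ≠ Sum.inr y := by
    intro τ hτ x y he
    have horb : MulAction.orbit (P : Subgroup (Perm (α ⊕ β))) (Sum.inl x : α ⊕ β) = Set.univ := by
      apply Set.eq_univ_of_forall
      rintro (x' | y')
      · obtain ⟨ρ, hρ, h⟩ := hl x x'
        exact ⟨⟨ρ, hρ⟩, h⟩
      · obtain ⟨ρ, hρ, h⟩ := hr y y'
        refine ⟨⟨ρ * τ, mul_mem hρ hτ⟩, ?_⟩
        show ρ (τ (Sum.inl x)) = _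
        rw [he, h]
    obtain ⟨k, hk⟩ := P.isPGroup'.card_orbit (Sum.inl x : α ⊕ β)
    rw [horb] at hk
    have hk' : Nat.card (α ⊕ β) = 2 ^ k := by
      rw [← hk]; exact (Nat.card_congr (Equiv.Set.univ _)).symm
    rw [Nat.card_eq_fintype_card, Fintype.card_sum, hα, hβ] at hk'
    exact two_pow_ne hab hk'
  have hpres : ∀ τ ∈ (P : Subgroup (Perm (α ⊕ β))), τ ∈ (Perm.sumCongrHom α β).range := by
    intro τ hτ
    apply Equiv.Perm.mem_sumCongrHom_range_of_perm_mapsTo_inl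
    rintro _ ⟨x, rfl⟩
    rcases h : τ (Sum.inl x) with x' | y'
    · exact ⟨x', rfl⟩
    · exact absurd h (hno τ hτ x y')
  -- projections
  let P' : Subgroup (Perm α × Perm β) := (P : Subgroup (Perm (α ⊕ β))).comap (Perm.sumCongrHom α β)
  have hP' : IsPGroup 2 P' := P.isPGroup'.comap_of_injective _ Perm.sumCongrHom_injective
  have h1 : P'.map (MonoidHom.fst _ _) = (T₁ : Subgroup (Perm α)) := by
    refine T₁.is_maximal' (hP'.map _) ?_
    intro p hp
    exact ⟨(p, 1), hP (mem_TT hp (one_mem _)), rfl⟩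
  have h2 : P'.map (MonoidHom.snd _ _) = (T₂ : Subgroup (Perm β)) := by
    refine T₂.is_maximal' (hP'.map _) ?_
    intro p hp
    exact ⟨(1, p), hP (mem_TT (one_mem _) hp), rfl⟩
  intro τ hτ
  obtain ⟨⟨p, q⟩, rfl⟩ := hpres τ hτ
  have hpq : (p, q) ∈ P' := hτ
  refine mem_TT ?_ ?_
  · rw [← h1]; exact ⟨_, hpq, rfl⟩
  · rw [← h2]; exact ⟨_, hpq, rfl⟩

/-- the permutation lemma -/
theorem exists_move (hα : Fintype.card α = 2 ^ a) (hβ : Fintype.card β = 2 ^ b) (hab : b < a)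
    {P : Subgroup (Perm (α ⊕ β))} (hP : TT (T₁ : Subgroup (Perm α)) (T₂ : Subgroup (Perm β)) ≤ P)
    {ρ : Perm (α ⊕ β)} (hρ : ρ ∈ P) {x : α} {y : β} (hxy : ρ (Sum.inl x) = Sum.inr y) :
    ∃ σ ∈ P, ∀ z : β, ∃ w : α, σ (Sum.inr z) = Sum.inl w := by
  obtain ⟨S, hS⟩ := exists_sylow_TT hα hβ hab.ne' T₁ T₂
  have ht1 := Cfsg.Agent.H158.PronB.sylow_transitive hα T₁
  have ht2 := Cfsg.Agent.H158.PronB.sylow_transitive hβ T₂
  let A₁ : Subgroup (Perm (α ⊕ β)) := (T₁ : Subgroup (Perm α)).map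
    ((Perm.sumCongrHom α β).comp (MonoidHom.inl _ _))
  let A₂ : Subgroup (Perm (α ⊕ β)) := (T₂ : Subgroup (Perm β)).map
    ((Perm.sumCongrHom α β).comp (MonoidHom.inr _ _))
  let C : Subgroup (Perm (α ⊕ β)) := P ⊓ MulAction.stabilizer (Perm (α ⊕ β)) (Sum.inr y : α ⊕ β)
  let A : Subgroup (Perm (α ⊕ β)) := A₂.map (MulAut.conj ρ).toMonoidHom
  have hρi : ρ⁻¹ (Sum.inr y) = Sum.inl x := by rw [Perm.inv_eq_iff_eq]; exact hxy.symm
  obtain ⟨k, hk, c, hc, hkA, hkB⟩ := two_into S (K := P) (C := C) (A := A) (B := A₁) (hS ▸ hP)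
    inf_le_left (by
      rintro _ ⟨_, ⟨q, hq, rfl⟩, rfl⟩
      have h1 : (Perm.sumCongrHom α β) (1, q) ∈ P := hP (mem_TT (one_mem _) hq)
      refine Subgroup.mem_inf.2 ⟨mul_mem (mul_mem hρ h1) (inv_mem hρ), ?_⟩
      show ρ ((Perm.sumCongrHom α β) (1, q) (ρ⁻¹ (Sum.inr y))) = Sum.inr y
      rw [hρi]
      exact hxy) (by
      rintro _ ⟨p, hp, rfl⟩
      exact Subgroup.mem_inf.2 ⟨hP (mem_TT hp (one_mem _)), rfl⟩) ((T₂.isPGroup'.map _).map _) (T₁.isPGroup'.map _)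
  rw [hS] at hkA hkB
  obtain ⟨hcP, hcy⟩ := hc
  have hcy' : c (Sum.inr y) = Sum.inr y := hcy
  -- the image of `β` under `m₁ = k ρ`
  set! m₁ : Perm (α ⊕ β) := k * ρ with hm₁
  set m₂ : Perm (α ⊕ β) := k * c with hm₂
  have h1 : ∀ q ∈ (T₂ : Subgroup (Perm β)), m₁ * (Perm.sumCongrHom α β) (1, q) * m₁⁻¹ ∈
      TT (T₁ : Subgroup (Perm α)) (T₂ : Subgroup (Perm β)) := by
    intro q hq
    have h3 := hkA (ρ * (Perm.sumCongrHom α β) (1, q) * ρ⁻¹) ⟨_, ⟨q, hq, rfl⟩, rfl⟩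
    have h4 : m₁ * (Perm.sumCongrHom α β) (1, q) * m₁⁻¹ =
        k * (ρ * (Perm.sumCongrHom α β) (1, q) * ρ⁻¹) * k⁻¹ := by rw [hm₁]; group
    rw [h4]; exact h3
  have h2 : ∀ p ∈ (T₁ : Subgroup (Perm α)), m₂ * (Perm.sumCongrHom α β) (p, 1) * m₂⁻¹ ∈
      TT (T₁ : Subgroup (Perm α)) (T₂ : Subgroup (Perm β)) := by
    intro p hp
    exact hkB _ ⟨p, hp, rfl⟩
  have hm₁P : m₁ ∈ P := mul_mem hk hρ
  -- `m₂ α = α`
  have h3 : ∀ z : α, ∃ w : α, m₂ (Sum.inl z) = Sum.inl w := by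
    intro z
    by_contra hcon
    have hz : ∃ w : β, m₂ (Sum.inl z) = Sum.inr w := by
      rcases h : m₂ (Sum.inl z) with w | w
      · exact absurd ⟨w, h⟩ hcon
      · exact ⟨w, rfl⟩
    obtain ⟨w, hw⟩ := hz
    have hall : ∀ z' : α, ∃ w' : β, m₂ (Sum.inl z') = Sum.inr w' := by
      intro z'
      obtain ⟨p, hp, rfl⟩ := ht1 z z'
      obtain ⟨p', -, q', -, -, hq'⟩ := exists_of_mem_TT (h2 p hp)
      refine ⟨q' w, ?_⟩
      rw [← hq' w, ← hw]
      show m₂ (Sum.inl (p z)) = m₂ ((Perm.sumCongrHom α β) (p, 1) (m₂⁻¹ (m₂ (Sum.inl z))))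
      have e : m₂⁻¹ (m₂ (Sum.inl z)) = Sum.inl z := by simp
      rw [e]
      rfl
    choose f hf using hall
    have hinj : Function.Injective f := by
      intro u v huv
      have h5 : m₂ (Sum.inl u) = m₂ (Sum.inl v) := by rw [hf, hf, huv]
      exact Sum.inl_injective (m₂.injective h5)
    have h5 := Fintype.card_le_of_injective f hinj
    rw [hα, hβ] at h5
    exact absurd (Nat.pow_lt_pow_right (by norm_num : 1 < 2) hab) (by omega)
  by_cases h4 : ∃ z : β, ∃ w : α, m₁ (Sum.inr z) = Sum.inl w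
  · obtain ⟨z, w, hw⟩ := h4
    refine ⟨m₁, hm₁P, fun z' => ?_⟩
    obtain ⟨q, hq, rfl⟩ := ht2 z z'
    obtain ⟨p', -, q', -, hp', -⟩ := exists_of_mem_TT (h1 q hq)
    refine ⟨p' w, ?_⟩
    rw [← hp' w, ← hw]
    show m₁ (Sum.inr (q z)) = m₁ ((Perm.sumCongrHom α β) (1, q) (m₁⁻¹ (m₁ (Sum.inr z))))
    have e : m₁⁻¹ (m₁ (Sum.inr z)) = Sum.inr z := by simp
    rw [e]
    rfl
  · exfalso
    have h5 : ∀ z : β, ∃ w : β, m₁ (Sum.inr z) = Sum.inr w := by
      intro z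
      rcases h : m₁ (Sum.inr z) with w | w
      · exact absurd ⟨z, w, h⟩ h4
      · exact ⟨w, rfl⟩
    -- `m₁ α = α`
    have h6 : ∃ w : α, k (Sum.inr y) = Sum.inl w := by
      have h7 : k (Sum.inr y) = m₁ (Sum.inl x) := by
        show _ = k (ρ (Sum.inl x))
        rw [hxy]
      rw [h7]
      rcases h : m₁ (Sum.inl x) with w | w
      · exact ⟨w, rfl⟩
      · exfalso
        choose f hf using h5
        have hinj : Function.Injective f := by
          intro u v huv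
          have h5 : m₁ (Sum.inr u) = m₁ (Sum.inr v) := by rw [hf, hf, huv]
          exact Sum.inr_injective (m₁.injective h5)
        obtain ⟨u, hu⟩ := (Finite.injective_iff_surjective.1 hinj) w
        have h8 : m₁ (Sum.inr u) = m₁ (Sum.inl x) := by rw [hf, hu, h]
        exact Sum.inr_ne_inl (m₁.injective h8)
    obtain ⟨w, hw⟩ := h6
    -- but `m₂ y = k y`
    have h7 : m₂ (Sum.inr y) = Sum.inl w := by
      show k (c (Sum.inr y)) = _
      rw [hcy', hw]
    choose f hf using h3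
    have hinj : Function.Injective f := by
      intro u v huv
      have h5 : m₂ (Sum.inl u) = m₂ (Sum.inl v) := by rw [hf, hf, huv]
      exact Sum.inl_injective (m₂.injective h5)
    obtain ⟨u, hu⟩ := (Finite.injective_iff_surjective.1 hinj) w
    have h8 : m₂ (Sum.inl u) = m₂ (Sum.inr y) := by rw [hf, hu, h7]
    exact Sum.inl_ne_inr (m₂.injective h8)

end

/-- The averaging identity. -/
theorem sum_avg {T : Subgroup (Perm α)} [Fintype T] (hT : ∀ x y : α, ∃ τ ∈ T, τ x = y) (f : α → ℤ) (x : α) :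
    (∑ τ : T, f ((τ : Perm α)⁻¹ x)) * (Fintype.card α : ℤ) = (Fintype.card T : ℤ) * ∑ y, f y := by
  have hcc : ∀ a b, (∑ τ : T, f ((τ : Perm α)⁻¹ a)) = ∑ τ : T, f ((τ : Perm α)⁻¹ b) := by
    intro a b
    obtain ⟨ρ, hρ, rfl⟩ := hT b a
    refine Fintype.sum_equiv (Equiv.mulLeft (⟨ρ, hρ⟩ : T)⁻¹) _ _ (fun τ => ?_)
    simp only [Equiv.coe_mulLeft, Subgroup.coe_mul, Subgroup.coe_inv, _root_.mul_inv_rev, inv_inv,
      Perm.mul_apply]
  have h3 : ∑ b, (∑ τ : T, f ((τ : Perm α)⁻¹ b)) = Fintype.card α * ∑ τ : T, f ((τ : Perm α)⁻¹ x) := by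
    rw [Finset.sum_congr rfl (fun b _ => hcc b x), Finset.sum_const, Finset.card_univ,
      nsmul_eq_mul]
  rw [mul_comm, ← h3, Finset.sum_comm]
  have h4 : ∀ τ : T, ∑ b, f ((τ : Perm α)⁻¹ b) = ∑ b, f b := fun τ =>
    Equiv.sum_comp ((τ : Perm α)⁻¹) f
  rw [Finset.sum_congr rfl (fun τ _ => h4 τ), Finset.sum_const, Finset.card_univ,
    nsmul_eq_mul]

end Cfsg.Agent.H408.Pron.PermL
end

-- part: H408/Pron/AvgTwo
section
/-!
# Averaging over the two fibres (helper408)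
-/

set_option autoImplicit false
set_option linter.unusedSectionVars false

namespace Cfsg.Agent.H408.Pron.AvgTwo

open Quaternion Matrix Equiv
open Cfsg.Agent.H158.PronQ Cfsg.Agent.H158.PronMat Cfsg.Agent.H158.PronMono
open Cfsg.Agent.H158.PronFrame Cfsg.Agent.H158.PronTwo Cfsg.Agent.H158.PronAvg
open Cfsg.Agent.H158.PronK
open Cfsg.Agent.H408.Pron.Gen Cfsg.Agent.H408.Pron.PermL

variable {F : Type*} [Field F]
variable {α β : Type*} [Fintype α] [DecidableEq α] [Fintype β] [DecidableEq β]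

/-- `ω^x` on `α`, `ω^y` on `β`. -/
def Om (h2 : (2 : F) ≠ 0) (x y : ℤ) : GU (α ⊕ β) F := Dom h2 (Sum.elim (fun _ => x) (fun _ => y))

theorem Om_add (h2 : (2 : F) ≠ 0) (x y x' y' : ℤ) :
    (Om h2 (x + x') (y + y') : GU (α ⊕ β) F) = Om h2 x y * Om h2 x' y' := by
  rw [Om, Om, Om, ← Dom_add]
  congr 1
  funext b
  rcases b with b | b <;> rfl

theorem Om_mul (h2 : (2 : F) ≠ 0) (x y k : ℤ) :
    (Om h2 (x * k) (y * k) : GU (α ⊕ β) F) = (Om h2 x y) ^ k := by
  rw [Om, Om, ← Dom_zpow]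
  congr 1
  funext b
  rcases b with b | b <;> rfl

theorem Om_congr (h2 : (2 : F) ≠ 0) {x y x' y' : ℤ} (hx : (3 : ℤ) ∣ x - x') (hy : (3 : ℤ) ∣ y - y') :
    (Om h2 x y : GU (α ⊕ β) F) = Om h2 x' y' := by
  apply Dom_congr
  rintro (b | b)
  · exact hx
  · exact hy

theorem Om_zero (h2 : (2 : F) ≠ 0) : (Om h2 0 0 : GU (α ⊕ β) F) = 1 := by
  rw [Om, ← Dom_zero h2]
  congr 1
  funext b
  rcases b with b | b <;> rfl

theorem two_pow_mod (a : ℕ) : (3 : ℤ) ∣ 2 ^ a - 1 ∨ (3 : ℤ) ∣ 2 ^ a + 1 := by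
  induction a with
  | zero => left; norm_num
  | succ a ih =>
    rw [pow_succ]
    rcases ih with h | h
    · right; omega
    · left; omega

theorem four_pow_mod (a : ℕ) : (3 : ℤ) ∣ 2 ^ (2 * a) - 1 := by
  induction a with
  | zero => norm_num
  | succ a ih =>
    rw [show 2 * (a + 1) = 2 * a + 2 by ring, pow_add]
    omega

theorem two_pow_congr {a b : ℕ} (h : a % 2 = b % 2) : (3 : ℤ) ∣ 2 ^ a - 2 ^ b := by
  wlog hab : b ≤ a generalizing a b
  · have := this h.symm (by omega)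
    omega
  obtain ⟨c, rfl⟩ : ∃ c, a = b + 2 * c := ⟨(a - b) / 2, by (solve | lia | omega)⟩
  rw [pow_add]
  obtain ⟨d, hd⟩ := four_pow_mod c
  exact ⟨2 ^ b * d, by linear_combination (2 : ℤ) ^ b * hd⟩

/-- The averaging lemma on two fibres. -/
theorem avg2 (h2 : (2 : F) ≠ 0) {a b : ℕ} (hα : Fintype.card α = 2 ^ a) (hβ : Fintype.card β = 2 ^ b)
    (hpar : a % 2 = b % 2) (T₁ : Sylow 2 (Perm α)) (T₂ : Sylow 2 (Perm β)) {K : Subgroup (GU (α ⊕ β) F)}
    (hK : SG (Q8 F) (TT (T₁ : Subgroup (Perm α)) (T₂ : Subgroup (Perm β))) ≤ K) {ε : α ⊕ β → ℤ}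
    (hε : Dom h2 ε ∈ K) : Om h2 (∑ x, ε (Sum.inl x)) (∑ y, ε (Sum.inr y)) ∈ K := by
  classical
  have : Fintype (T₁ : Subgroup (Perm α)) := Fintype.ofFinite _
  have : Fintype (T₂ : Subgroup (Perm β)) := Fintype.ofFinite _
  have ht1 := Cfsg.Agent.H158.PronB.sylow_transitive hα T₁
  have ht2 := Cfsg.Agent.H158.PronB.sylow_transitive hβ T₂
  set! c₁ : α → ℤ := fun x => ∑ τ : (T₁ : Subgroup (Perm α)), ε (Sum.inl ((τ : Perm α)⁻¹ x)) with hc₁
  set! c₂ : β → ℤ := fun y => ∑ τ : (T₂ : Subgroup (Perm β)), ε (Sum.inr ((τ : Perm β)⁻¹ y)) with hc₂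
  set! t₁ : ℤ := (Fintype.card (T₁ : Subgroup (Perm α)) : ℤ) with ht₁
  set! t₂ : ℤ := (Fintype.card (T₂ : Subgroup (Perm β)) : ℤ) with ht₂
  -- first step
  have s1 : Dom h2 (Sum.elim c₁ (fun y => ε (Sum.inr y) * t₁)) ∈ K := by
    have h1 : ∀ τ : (T₁ : Subgroup (Perm α)),
        Dom h2 (Sum.elim (fun x => ε (Sum.inl ((τ : Perm α)⁻¹ x))) (fun y => ε (Sum.inr y))) ∈ K := by
      intro τ
      have hp : PM (Perm.sumCongrHom α β ((τ : Perm α), 1)) ∈ K := hK (PM_mem _ (mem_TT τ.2 (one_mem _)))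
      have h3 := mul_mem (mul_mem hp hε) (inv_mem hp)
      rw [Dom, PM_conj_D] at h3
      rw [Dom]
      convert h3 using 2
      funext b
      rcases b with b | b <;> rfl
    have hprod : ∀ s : Finset (T₁ : Subgroup (Perm α)),
        Dom h2 (Sum.elim (fun x => ∑ τ ∈ s, ε (Sum.inl ((τ : Perm α)⁻¹ x)))
          (fun y => ε (Sum.inr y) * (s.card : ℤ))) ∈ K := by
      intro s
      induction s using Finset.induction_on with
      | empty =>
        have e : (Sum.elim (fun x => ∑ τ ∈ (∅ : Finset (T₁ : Subgroup (Perm α))), ε (Sum.inl ((τ : Perm α)⁻¹ x)))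
            (fun y => ε (Sum.inr y) * (((∅ : Finset (T₁ : Subgroup (Perm α))).card : ℕ) : ℤ))) =
            fun _ : α ⊕ β => (0 : ℤ) := by
          funext b
          rcases b with b | b <;> simp
        rw [e, Dom_zero]; exact one_mem _
      | insert τ s hτ ih =>
        have h3 := mul_mem (h1 τ) ih
        rw [← Dom_add] at h3
        convert h3 using 2
        funext b
        rcases b with b | b
        · simp only [Finset.sum_insert hτ, _root_.Equiv.Perm.coe_inv, _root_.Sum.elim_inl]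
        · simp only [Finset.card_insert_of_notMem hτ, _root_.Equiv.Perm.coe_inv, _root_.Nat.cast_add, _root_.Nat.cast_one, _root_.Sum.elim_inr]; ring
    have := hprod Finset.univ
    rw [Finset.card_univ] at this
    exact this
  -- second step
  have s2 : Dom h2 (Sum.elim (fun x => c₁ x * t₂) (fun y => c₂ y * t₁)) ∈ K := by
    have h1 : ∀ τ : (T₂ : Subgroup (Perm β)),
        Dom h2 (Sum.elim (fun x => c₁ x) (fun y => ε (Sum.inr ((τ : Perm β)⁻¹ y)) * t₁)) ∈ K := by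
      intro τ
      have hp : PM (Perm.sumCongrHom α β (1, (τ : Perm β))) ∈ K := hK (PM_mem _ (mem_TT (one_mem _) τ.2))
      have h3 := mul_mem (mul_mem hp s1) (inv_mem hp)
      rw [Dom, PM_conj_D] at h3
      rw [Dom]
      convert h3 using 2
      funext b
      rcases b with b | b <;> rfl
    have hprod : ∀ s : Finset (T₂ : Subgroup (Perm β)),
        Dom h2 (Sum.elim (fun x => c₁ x * (s.card : ℤ))
          (fun y => (∑ τ ∈ s, ε (Sum.inr ((τ : Perm β)⁻¹ y))) * t₁)) ∈ K := by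
      intro s
      induction s using Finset.induction_on with
      | empty =>
        have e : (Sum.elim (fun x => c₁ x * (((∅ : Finset (T₂ : Subgroup (Perm β))).card : ℕ) : ℤ))
            (fun y => (∑ τ ∈ (∅ : Finset (T₂ : Subgroup (Perm β))), ε (Sum.inr ((τ : Perm β)⁻¹ y))) * t₁)) =
            fun _ : α ⊕ β => (0 : ℤ) := by
          funext b
          rcases b with b | b <;> simp
        rw [e, Dom_zero]; exact one_mem _
      | insert τ s hτ ih =>
        have h3 := mul_mem (h1 τ) ih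
        rw [← Dom_add] at h3
        convert h3 using 2
        funext b
        rcases b with b | b
        · simp only [Finset.card_insert_of_notMem hτ, _root_.Nat.cast_add, _root_.Nat.cast_one, _root_.Equiv.Perm.coe_inv, _root_.Sum.elim_inl]; ring
        · simp only [Finset.sum_insert hτ, _root_.Equiv.Perm.coe_inv, _root_.Sum.elim_inr]; ring
    have := hprod Finset.univ
    rw [Finset.card_univ] at this
    exact this
  -- the exponents
  set! A := ∑ x, ε (Sum.inl x) with hA; rewrite [← hA]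
  set! B := ∑ y, ε (Sum.inr y) with hB; rewrite [← hB]
  have e1 : ∀ x, c₁ x * 2 ^ a = t₁ * A := by
    intro x
    have := sum_avg ht1 (fun x => ε (Sum.inl x)) x
    rw [hα] at this
    push_cast at this
    exact this
  have e2 : ∀ y, c₂ y * 2 ^ b = t₂ * B := by
    intro y
    have := sum_avg ht2 (fun x => ε (Sum.inr x)) y
    rw [hβ] at this
    push_cast at this
    exact this
  obtain ⟨k₁, hk₁⟩ := IsPGroup.iff_card.1 T₁.isPGroup'
  obtain ⟨k₂, hk₂⟩ := IsPGroup.iff_card.1 T₂.isPGroup'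
  have f1 : t₁ = 2 ^ k₁ := by
    rw [ht₁, ← Nat.card_eq_fintype_card]
    exact_mod_cast hk₁
  have f2 : t₂ = 2 ^ k₂ := by
    rw [ht₂, ← Nat.card_eq_fintype_card]
    exact_mod_cast hk₂
  have s3 := zpow_mem s2 ((2 : ℤ) ^ (k₁ + k₂ + a))
  rw [← Dom_zpow] at s3
  have e3 : Dom h2 (fun i => Sum.elim (fun x => c₁ x * t₂) (fun y => c₂ y * t₁) i * (2 : ℤ) ^ (k₁ + k₂ + a)) =
      (Om h2 A B : GU (α ⊕ β) F) := by
    obtain ⟨u, hu⟩ := four_pow_mod (k₁ + k₂)
    rw [two_mul, pow_add] at hu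
    obtain ⟨v, hv⟩ := two_pow_congr hpar
    apply Dom_congr
    rintro (x | y)
    · simp only [Sum.elim_inl]
      refine ⟨A * u, ?_⟩
      have := e1 x
      rw [f1] at this
      rw [f2, pow_add, show c₁ x * 2 ^ k₂ * (2 ^ (k₁ + k₂) * 2 ^ a) = (c₁ x * 2 ^ a) * 2 ^ k₂ * 2 ^ (k₁ + k₂) by ring,
        this]
      rw [pow_add] at hu ⊢
      linear_combination A * hu
    · simp only [Sum.elim_inr]
      have := e2 y
      rw [f2] at this
      refine ⟨B * u + c₂ y * 2 ^ k₁ * 2 ^ (k₁ + k₂) * v, ?_⟩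
      rw [f1, pow_add]
      rw [pow_add] at hu ⊢
      linear_combination B * hu + c₂ y * 2 ^ k₁ * (2 ^ k₁ * 2 ^ k₂) * hv + 2 ^ k₁ * (2 ^ k₁ * 2 ^ k₂) * this
  rwa [e3] at s3

end Cfsg.Agent.H408.Pron.AvgTwo
end

-- part: H408/Pron/Block
section
/-!
# The block subgroup (helper408)
-/

set_option autoImplicit false
set_option linter.unusedSectionVars false

namespace Cfsg.Agent.H408.Pron.Block

open Quaternion Matrix Equiv
open Cfsg.Agent.H158.PronQ Cfsg.Agent.H158.PronMat Cfsg.Agent.H158.PronMono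
open Cfsg.Agent.H408.Pron Cfsg.Agent.H94.Pronormal

section Abstract

variable {G B : Type*} [Group G] [Group B]

/-- Pronormality inside a subgroup. -/
theorem of_range (f : B →* G) (hB : PO B) {H : Subgroup G} (hH : Odd H.index) (hHr : H ≤ f.range)
    {g : G} (hg : g ∈ f.range) :
    ∃ x ∈ H ⊔ H.map (MulAut.conj g).toMonoidHom,
      H.map (MulAut.conj g).toMonoidHom = H.map (MulAut.conj x).toMonoidHom := by
  obtain ⟨b, rfl⟩ := hg
  have h1 : Odd (H.comap f).index := by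
    rw [Subgroup.index_comap]
    exact Odd.of_dvd_nat hH (Dvd.intro _ (Subgroup.relIndex_mul_index hHr))
  obtain ⟨x, hx, hxe⟩ := hB _ h1 b
  have h2 : ∀ y : B, ((H.comap f).map (MulAut.conj y).toMonoidHom).map f =
      H.map (MulAut.conj (f y)).toMonoidHom := by
    intro y
    ext z
    constructor
    · rintro ⟨_, ⟨w, hw, rfl⟩, rfl⟩
      exact ⟨f w, hw, by simp only [_root_.MulEquiv.toMonoidHom_eq_coe, _root_.MonoidHom.coe_coe, _root_.MulAut.conj_apply, _root_.map_mul, _root_.map_inv]⟩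
    · rintro ⟨w, hw, rfl⟩
      obtain ⟨v, rfl⟩ := hHr hw
      exact ⟨_, ⟨v, hw, rfl⟩, by simp only [_root_.MulEquiv.toMonoidHom_eq_coe, _root_.MonoidHom.coe_coe, _root_.MulAut.conj_apply, _root_.map_mul, _root_.map_inv]⟩
  refine ⟨f x, ?_, ?_⟩
  · have h3 : f x ∈ ((H.comap f) ⊔ (H.comap f).map (MulAut.conj b).toMonoidHom).map f := ⟨x, hx, rfl⟩
    rw [Subgroup.map_sup, h2] at h3
    exact (sup_le_sup_right (Subgroup.map_comap_le f H) _) h3
  · rw [← h2, ← h2, hxe]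

theorem PO.of_surjective (f : G →* B) (hf : Function.Surjective f) (h : PO G) : PO B := by
  intro H hH g
  obtain ⟨g, rfl⟩ := hf g
  have h1 : Odd (H.comap f).index := by
    rw [Subgroup.index_comap_of_surjective _ hf]; exact hH
  obtain ⟨x, hx, he⟩ := h _ h1 g
  have h2 : ∀ y : G, ((H.comap f).map (MulAut.conj y).toMonoidHom).map f =
      H.map (MulAut.conj (f y)).toMonoidHom := by
    intro y
    ext z
    constructor
    · rintro ⟨_, ⟨w, hw, rfl⟩, rfl⟩
      exact ⟨f w, hw, by simp only [_root_.MulEquiv.toMonoidHom_eq_coe, _root_.MonoidHom.coe_coe, _root_.MulAut.conj_apply, _root_.map_mul, _root_.map_inv]⟩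
    · rintro ⟨w, hw, rfl⟩
      obtain ⟨v, rfl⟩ := hf w
      exact ⟨_, ⟨v, hw, rfl⟩, by simp only [_root_.MulEquiv.toMonoidHom_eq_coe, _root_.MonoidHom.coe_coe, _root_.MulAut.conj_apply, _root_.map_mul, _root_.map_inv]⟩
  refine ⟨f x, ?_, ?_⟩
  · have h3 : f x ∈ ((H.comap f) ⊔ (H.comap f).map (MulAut.conj g).toMonoidHom).map f := ⟨x, hx, rfl⟩
    rw [Subgroup.map_sup, h2] at h3
    exact (sup_le_sup_right (Subgroup.map_comap_le f H) _) h3
  · rw [← h2, ← h2, he]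

end Abstract

variable {F : Type*} [Field F]
variable {α β : Type*} [Fintype α] [DecidableEq α] [Fintype β] [DecidableEq β]

/-- The block diagonal matrices. -/
def blk : GU α F × GU β F →* GU (α ⊕ β) F where
  toFun p := ⟨Matrix.fromBlocks p.1.1 0 0 p.2.1, by
    rw [mem_GU, Matrix.fromBlocks_conjTranspose, Matrix.fromBlocks_multiply, Matrix.fromBlocks_multiply]
    simp only [star_mul_coe, coe_mul_star, Matrix.conjTranspose_zero, Matrix.mul_zero, Matrix.zero_mul,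
      add_zero, zero_add, Matrix.fromBlocks_one, and_self]⟩
  map_one' := Subtype.ext Matrix.fromBlocks_one
  map_mul' p q := by
    apply Subtype.ext
    show Matrix.fromBlocks (p.1.1 * q.1.1) 0 0 (p.2.1 * q.2.1) =
      Matrix.fromBlocks p.1.1 0 0 p.2.1 * Matrix.fromBlocks q.1.1 0 0 q.2.1
    rw [Matrix.fromBlocks_multiply]
    simp only [_root_.Matrix.mul_zero, _root_.add_zero, _root_.Matrix.zero_mul, _root_.zero_add]

/-- the matrix is block diagonal -/
def IsBlk (g : GU (α ⊕ β) F) : Prop :=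
  (∀ x y, g.1 (Sum.inl x) (Sum.inr y) = 0) ∧ ∀ y x, g.1 (Sum.inr y) (Sum.inl x) = 0

theorem mem_range_blk {g : GU (α ⊕ β) F} (hg : IsBlk g) : g ∈ (blk : GU α F × GU β F →* GU (α ⊕ β) F).range := by
  have h12 : g.1.toBlocks₁₂ = 0 := by ext1 x y; exact hg.1 x y
  have h21 : g.1.toBlocks₂₁ = 0 := by ext1 x y; exact hg.2 x y
  have hfb := Matrix.fromBlocks_toBlocks g.1
  rw [h12, h21] at hfb
  have h1 := star_mul_coe g
  have h3 := coe_mul_star g
  rw [← hfb, Matrix.fromBlocks_conjTranspose, Matrix.fromBlocks_multiply, ← Matrix.fromBlocks_one,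
    Matrix.fromBlocks_inj] at h1 h3
  simp only [Matrix.conjTranspose_zero, Matrix.mul_zero, Matrix.zero_mul, add_zero, zero_add] at h1 h3
  refine ⟨(⟨g.1.toBlocks₁₁, mem_GU.2 ⟨h1.1, h3.1⟩⟩, ⟨g.1.toBlocks₂₂, mem_GU.2 ⟨h1.2.2.2, h3.2.2.2⟩⟩), ?_⟩
  apply Subtype.ext
  exact hfb

end Cfsg.Agent.H408.Pron.Block
end

-- part: H408/Pron/Cases
section
/-!
# Odd index subgroups of `GU (α ⊕ β) F`, `|α| = 2^a`, `|β| = 2^b`, `a ≡ b mod 2` (helper408)
-/

set_option autoImplicit false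
set_option linter.unusedSectionVars false

namespace Cfsg.Agent.H408.Pron.Cases

open Quaternion Matrix Equiv
open Cfsg.Agent.H158.PronQ Cfsg.Agent.H158.PronMat Cfsg.Agent.H158.PronMono
open Cfsg.Agent.H158.PronFrame Cfsg.Agent.H158.PronTwo Cfsg.Agent.H158.PronAvg
open Cfsg.Agent.H158.PronK Cfsg.Agent.H158.PronP Cfsg.Agent.H158.PronT Cfsg.Agent.H158.PronH
open Cfsg.Agent.H158.PronG Cfsg.Agent.H158.PronM2 Cfsg.Agent.H94.Pronormal
open Cfsg.Agent.H408.Pron Cfsg.Agent.H408.Pron.Gen Cfsg.Agent.H408.Pron.PermL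
open Cfsg.Agent.H408.Pron.AvgTwo Cfsg.Agent.H408.Pron.Frame Cfsg.Agent.H408.Pron.Block

section Abstract

theorem mem_of_zpow {G : Type*} [Group G] {K : Subgroup G} {g : G} (h3 : g ^ (3 : ℤ) = 1) {m : ℤ}
    (hm : ¬ (3 : ℤ) ∣ m) (h : g ^ m ∈ K) : g ∈ K := by
  have h1 : m % 3 = 1 ∨ m % 3 = 2 := by omega
  rcases h1 with h1 | h1
  · have e : m = 3 * (m / 3) + 1 := by omega
    rw [e, _root_.zpow_add, _root_.zpow_mul, h3, _root_.one_zpow, one_mul, zpow_one] at h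
    exact h
  · have e : m = 3 * (m / 3 + 1) + -1 := by omega
    rw [e, _root_.zpow_add, _root_.zpow_mul, h3, _root_.one_zpow, one_mul, _root_.zpow_neg_one] at h
    exact inv_mem_iff.1 h

end Abstract

variable {F : Type*} [Field F]

section Mon

variable {n : Type*} [Fintype n] [DecidableEq n]

theorem Rj_om (h2 : (2 : F) ≠ 0) (j : n) : Rj j (om h2) = Dom h2 (fun c => if c = j then 1 else 0) := by
  rw [Rj_eq_D, Dom]
  congr 1
  funext c
  split_ifs <;> simp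

/-- the permutations of the monomial elements of `H` -/
def Pm (H : Subgroup (GU n F)) : Subgroup (Perm n) where
  carrier := {σ | ∃ m ∈ H, Mono m.1 σ}
  one_mem' := ⟨1, one_mem _, Mono.one⟩
  mul_mem' := by
    rintro σ τ ⟨m, hm, hσ⟩ ⟨k, hk, hτ⟩
    exact ⟨m * k, mul_mem hm hk, hσ.mul hτ⟩
  inv_mem' := by
    rintro σ ⟨m, hm, hσ⟩
    refine ⟨m⁻¹, inv_mem hm, ?_⟩
    rw [coe_inv_GU]
    exact hσ.star

theorem le_Pm {W : Subgroup (U F)} {T : Subgroup (Perm n)} {H : Subgroup (GU n F)} (h : SG W T ≤ H) :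
    T ≤ Pm H := fun σ hσ => ⟨PM σ, h (PM_mem W hσ), PM_mono σ⟩

/-- An element conjugating the base group into the wreath product is monomial. -/
theorem mono_of_base [Finite F] (h2 : (2 : F) ≠ 0) {T : Subgroup (Perm n)} {g : GU n F}
    (hg : ∀ b, ∀ w ∈ Q8 F, g * Rj b w * g⁻¹ ∈ SG (Q8 F) T) :
    ∃ σ : Perm n, Mono g.1 σ ∧ ∀ b, ∃ w ∈ N8 F, (w : ℍ[F]) = g.1 (σ b) b := by
  have h1 : ∀ b, ∃ j, ∀ a, a ≠ j → g.1 a b = 0 := by
    intro b
    have hx : ip (g.1 *ᵥ e b) (g.1 *ᵥ e b) = 1 := by rw [ip_act, ip_e_e]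
    have hz : R (g.1 *ᵥ e b) hx nu = (g * Rj b uI * g⁻¹) * (g * Rj b uI * g⁻¹) := by
      rw [← R_conj g (e b) (ip_e_e b) hx nu, ← uI_sq]
      show g * Rj b (uI * uI) * g⁻¹ = _
      rw [map_mul]; group
    have hy := hg b uI uI_mem
    have hzS : R (g.1 *ᵥ e b) hx nu ∈ SG (Q8 F) T := by rw [hz]; exact mul_mem hy hy
    rcases rf_mem_SG h2 hzS with ⟨j, hj⟩ | ⟨a, c, hac, -, hm, -⟩
    · refine ⟨j, fun a ha => ?_⟩
      have := hj a ha
      rwa [Cfsg.Agent.H158.PronMono.mulVec_e] at this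
    · exfalso
      obtain ⟨τ, -, hτ, -⟩ := hy
      have hm' : Mono (R (g.1 *ᵥ e b) hx nu).1 (τ * τ) := by
        rw [hz]; exact hτ.mul hτ
      exact sq_ne_swap hac (hm'.unique hm)
  obtain ⟨σ, hσ⟩ := Cfsg.Agent.H158.PronA.mono_of_cols h1
  refine ⟨σ, hσ, fun b => ?_⟩
  obtain ⟨u, hu⟩ := hσ.entry b
  refine ⟨u, mem_N8_of fun w hw => ?_, hu⟩
  have h3 := hg b w hw
  rw [hσ.conj_Rj b hu] at h3
  exact mem_of_Rj_mem h3

theorem Rj_nu_injective (h2 : (2 : F) ≠ 0) {i j : n} (h : (Rj i nu : GU n F) = Rj j nu) : i = j := by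
  by_contra hij
  have h1 := congrFun (congrFun (congrArg Subtype.val h) i) i
  rw [Rj_apply, Rj_apply, if_pos rfl, if_pos rfl, if_pos rfl, if_neg hij, coe_nu] at h1
  have h4 : (2 : ℍ[F]) * 1 = 0 := by rw [two_mul]; nth_rw 1 [← h1]; simp
  exact one_ne_zero (two_ne h2 h4)

theorem conj_nu (u : U F) : u * nu * u⁻¹ = nu := by
  apply Subtype.ext
  rw [Submonoid.coe_mul, Submonoid.coe_mul, coe_nu, mul_neg, mul_one, neg_mul]
  congr 1
  exact congrArg Subtype.val (mul_inv_cancel u)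

end Mon

variable [Finite F]
variable {α β : Type*} [Fintype α] [DecidableEq α] [Fintype β] [DecidableEq β]

/-- The data. -/
structure Dat (F : Type*) [Field F] (α β : Type*) [Fintype α] [DecidableEq α] [Fintype β] [DecidableEq β] where
  h2 : (2 : F) ≠ 0
  hns : ¬ IsSquare (2 : F)
  a : ℕ
  b : ℕ
  hα : Fintype.card α = 2 ^ a
  hβ : Fintype.card β = 2 ^ b
  hpar : a % 2 = b % 2
  hab : b < a
  T₁ : Sylow 2 (Perm α)
  T₂ : Sylow 2 (Perm β)
  T : Sylow 2 (Perm (α ⊕ β))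
  hT : (T : Subgroup (Perm (α ⊕ β))) = TT (T₁ : Subgroup (Perm α)) (T₂ : Subgroup (Perm β))

namespace Dat

variable (X : Dat F α β)

theorem OmCube (x y : ℤ) : (Om X.h2 x y : GU (α ⊕ β) F) ^ (3 : ℤ) = 1 := by
  rw [← Om_mul, Om_congr X.h2 (x' := 0) (y' := 0) ⟨x, by ring⟩ ⟨y, by ring⟩, Om_zero]

theorem Om_eq (x y : ℤ) : (Om X.h2 x y : GU (α ⊕ β) F) = (Om X.h2 1 0) ^ x * (Om X.h2 0 1) ^ y := by
  rw [← Om_mul, ← Om_mul, ← Om_add]
  congr 1 <;> ring

theorem hta (x y : α) : ∃ τ ∈ (X.T₁ : Subgroup (Perm α)), τ x = y :=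
  Cfsg.Agent.H158.PronB.sylow_transitive X.hα X.T₁ x y

theorem htb (x y : β) : ∃ τ ∈ (X.T₂ : Subgroup (Perm β)), τ x = y :=
  Cfsg.Agent.H158.PronB.sylow_transitive X.hβ X.T₂ x y

theorem swap_fibre {i j : α ⊕ β} (h : _root_.Equiv.swap i j ∈ (X.T : Subgroup (Perm (α ⊕ β)))) :
    (∃ x y, i = Sum.inl x ∧ j = Sum.inl y) ∨ ∃ x y, i = Sum.inr x ∧ j = Sum.inr y := by
  rw [X.hT] at h
  obtain ⟨p, -, q, -, hp, hq⟩ := exists_of_mem_TT h
  rcases i with x | x
  · left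
    have := hp x
    rw [swap_apply_left] at this
    exact ⟨x, _, rfl, this⟩
  · right
    have := hq x
    rw [swap_apply_left] at this
    exact ⟨x, _, rfl, this⟩

variable {K : Subgroup (GU (α ⊕ β) F)} (hK : SG (Q8 F) (X.T : Subgroup (Perm (α ⊕ β))) ≤ K)

include hK

theorem avg {ε : α ⊕ β → ℤ} (hε : Dom X.h2 ε ∈ K) :
    Om X.h2 (∑ x, ε (Sum.inl x)) (∑ y, ε (Sum.inr y)) ∈ K :=
  avg2 X.h2 X.hα X.hβ X.hpar X.T₁ X.T₂ (X.hT ▸ hK) hε

theorem left_Rj {x : α} (h : Rj (Sum.inl x) (om X.h2) ∈ K) : Om X.h2 1 0 ∈ K := by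
  rw [Rj_om] at h
  have := X.avg hK h
  simpa only [_root_.Sum.inl.injEq, _root_.Finset.sum_ite_eq', _root_.Finset.mem_univ, ↓ _root_.reduceIte, _root_.reduceCtorEq, _root_.Finset.sum_const_zero] using this

theorem right_Rj {y : β} (h : Rj (Sum.inr y) (om X.h2) ∈ K) : Om X.h2 0 1 ∈ K := by
  rw [Rj_om] at h
  have := X.avg hK h
  simpa only [_root_.reduceCtorEq, ↓ _root_.reduceIte, _root_.Finset.sum_const_zero, _root_.Sum.inr.injEq, _root_.Finset.sum_ite_eq', _root_.Finset.mem_univ] using this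

theorem left_pair {x y : α} (h : Rj (Sum.inl x) (om X.h2) * Rj (Sum.inl y) (om X.h2) ∈ K) :
    Om X.h2 1 0 ∈ K := by
  rw [Rj_om, Rj_om, ← Dom_add] at h
  have h1 := X.avg hK h
  have h3 : (Om X.h2 1 0 : GU (α ⊕ β) F) ^ (2 : ℤ) ∈ K := by
    rw [← Om_mul]
    simpa only [Finset.sum_add_distrib, _root_.one_mul, _root_.MulZeroClass.zero_mul, _root_.Sum.inl.injEq, _root_.Finset.sum_ite_eq', _root_.Finset.mem_univ, ↓ _root_.reduceIte, _root_.Int.reduceAdd, _root_.reduceCtorEq, _root_.add_zero, _root_.Finset.sum_const_zero] using h1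
  exact mem_of_zpow (X.OmCube 1 0) (by norm_num) h3

theorem right_pair {x y : β} (h : Rj (Sum.inr x) (om X.h2) * Rj (Sum.inr y) (om X.h2) ∈ K) :
    Om X.h2 0 1 ∈ K := by
  rw [Rj_om, Rj_om, ← Dom_add] at h
  have h1 := X.avg hK h
  have h3 : (Om X.h2 0 1 : GU (α ⊕ β) F) ^ (2 : ℤ) ∈ K := by
    rw [← Om_mul]
    simpa only [Finset.sum_add_distrib, _root_.MulZeroClass.zero_mul, _root_.one_mul, _root_.reduceCtorEq, ↓ _root_.reduceIte, _root_.add_zero, _root_.Finset.sum_const_zero, _root_.Sum.inr.injEq, _root_.Finset.sum_ite_eq', _root_.Finset.mem_univ, _root_.Int.reduceAdd] using h1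
  exact mem_of_zpow (X.OmCube 0 1) (by norm_num) h3

theorem goodAll (hL : Om X.h2 1 0 ∉ K) (hR : Om X.h2 0 1 ∉ K) : Good X.h2 X.T K (fun _ => True) where
  sk := hK
  h1 := by
    rintro (x | y) - h
    · exact hL (X.left_Rj hK h)
    · exact hR (X.right_Rj hK h)
  h3 := by
    intro i j _ hsw _ h
    rcases X.swap_fibre hsw with ⟨x, y, rfl, rfl⟩ | ⟨x, y, rfl, rfl⟩
    · exact hL (X.left_pair hK h)
    · exact hR (X.right_pair hK h)
  h4 := fun _ _ _ h => absurd trivial h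

theorem goodL (hL : Om X.h2 1 0 ∉ K)
    (hNF : ∀ x y, ∀ k ∈ K, k * Rj (Sum.inl x) nu * k⁻¹ ≠ Rj (Sum.inr y) nu) :
    Good X.h2 X.T K (fun j => j.isLeft = true) where
  sk := hK
  h1 := by
    rintro (x | y) h' h
    · exact hL (X.left_Rj hK h)
    · exact absurd h' (by simp)
  h3 := by
    intro i j _ hsw hi h
    rcases X.swap_fibre hsw with ⟨x, y, rfl, rfl⟩ | ⟨x, y, rfl, rfl⟩
    · exact hL (X.left_pair hK h)
    · exact absurd hi (by simp)
  h4 := by
    rintro (x | x) (y | y) hx hy k hk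
    · exact absurd rfl hy
    · exact hNF x y k hk
    · exact absurd hx (by simp)
    · exact absurd hx (by simp)

theorem goodR (hR : Om X.h2 0 1 ∉ K)
    (hNF : ∀ x y, ∀ k ∈ K, k * Rj (Sum.inl x) nu * k⁻¹ ≠ Rj (Sum.inr y) nu) :
    Good X.h2 X.T K (fun j => j.isRight = true) where
  sk := hK
  h1 := by
    rintro (x | y) h' h
    · exact absurd h' (by simp)
    · exact hR (X.right_Rj hK h)
  h3 := by
    intro i j _ hsw hi h
    rcases X.swap_fibre hsw with ⟨x, y, rfl, rfl⟩ | ⟨x, y, rfl, rfl⟩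
    · exact absurd hi (by simp)
    · exact hR (X.right_pair hK h)
  h4 := by
    rintro (x | x) (y | y) hx hy k hk
    · exact absurd hx (by simp)
    · exact absurd hx (by simp)
    · intro h
      apply hNF y x k⁻¹ (inv_mem hk)
      rw [← h]; group
    · exact absurd rfl hy

theorem blk_L (hL : Om X.h2 1 0 ∉ K)
    (hNF : ∀ x y, ∀ k ∈ K, k * Rj (Sum.inl x) nu * k⁻¹ ≠ Rj (Sum.inr y) nu) : ∀ k ∈ K, IsBlk k := by
  have h1 : ∀ k ∈ K, ∀ y x, k.1 (Sum.inr y) (Sum.inl x) = 0 := by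
    intro k hk y x
    obtain ⟨j, hj, hj'⟩ := frame X.hns (X.goodL hK hL hNF) ((CV_e (I := fun j : α ⊕ β => j.isLeft = true) (j := Sum.inl x) rfl).act hk)
    have h3 := hj' (Sum.inr y) (by rintro rfl; exact absurd hj (by simp))
    rwa [Cfsg.Agent.H158.PronMono.mulVec_e] at h3
  intro k hk
  refine ⟨fun x y => ?_, h1 k hk⟩
  have h3 := h1 k⁻¹ (inv_mem hk) y x
  rw [coe_inv_GU, Matrix.conjTranspose_apply] at h3
  exact star_eq_zero.1 h3

theorem blk_R (hR : Om X.h2 0 1 ∉ K)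
    (hNF : ∀ x y, ∀ k ∈ K, k * Rj (Sum.inl x) nu * k⁻¹ ≠ Rj (Sum.inr y) nu) : ∀ k ∈ K, IsBlk k := by
  have h1 : ∀ k ∈ K, ∀ x y, k.1 (Sum.inl x) (Sum.inr y) = 0 := by
    intro k hk x y
    obtain ⟨j, hj, hj'⟩ := frame X.hns (X.goodR hK hR hNF) ((CV_e (I := fun j : α ⊕ β => j.isRight = true) (j := Sum.inr y) rfl).act hk)
    have h3 := hj' (Sum.inl x) (by rintro rfl; exact absurd hj (by simp))
    rwa [Cfsg.Agent.H158.PronMono.mulVec_e] at h3
  intro k hk
  refine ⟨h1 k hk, fun y x => ?_⟩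
  have h3 := h1 k⁻¹ (inv_mem hk) x y
  rw [coe_inv_GU, Matrix.conjTranspose_apply] at h3
  exact star_eq_zero.1 h3

/-- `K` is monomial. -/
theorem mono_all (hL : Om X.h2 1 0 ∉ K) (hR : Om X.h2 0 1 ∉ K) {k : GU (α ⊕ β) F} (hk : k ∈ K) :
    ∃ σ : Perm (α ⊕ β), Mono k.1 σ := by
  apply Cfsg.Agent.H158.PronA.mono_of_cols
  intro b
  obtain ⟨j, -, hj⟩ := frame X.hns (X.goodAll hK hL hR) ((CV_e (j := b) trivial).act hk)
  refine ⟨j, fun a ha => ?_⟩
  have h3 := hj a ha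
  rwa [Cfsg.Agent.H158.PronMono.mulVec_e] at h3

/-- The commutator argument. -/
theorem weight {h : GU (α ⊕ β) F} {σ : Perm (α ⊕ β)} (hσ : Mono h.1 σ)
    (hent : ∀ b, ∃ w ∈ N8 F, (w : ℍ[F]) = h.1 (σ b) b) (hσβ : ∀ z : β, ∃ w : α, σ (Sum.inr z) = Sum.inl w)
    {x y : ℤ} (hxy : ¬ (3 : ℤ) ∣ x - y) (hc : Om X.h2 x y * h * (Om X.h2 x y)⁻¹ * h⁻¹ ∈ K) :
    Om X.h2 1 (-1) ∈ K := by
  obtain ⟨d, hd, he⟩ := Dom_commutator X.h2 X.hns (Sum.elim (fun _ => x) (fun _ => y)) hσ hent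
  have hc' : Dom X.h2 (fun b => (Sum.elim (fun _ => x) (fun _ => y) : α ⊕ β → ℤ) b -
      (Sum.elim (fun _ => x) (fun _ => y) : α ⊕ β → ℤ) (σ⁻¹ b)) ∈ K := by
    have h1 : Om X.h2 x y * h * (Om X.h2 x y)⁻¹ * h⁻¹ * (D d)⁻¹ ∈ K :=
      mul_mem hc (inv_mem (hK (D_mem _ hd)))
    rw [Om, he, mul_inv_cancel_right] at h1
    exact h1
  have h1 := X.avg hK hc'
  have hr : ∀ y' : β, (Sum.elim (fun _ => x) (fun _ => y) : α ⊕ β → ℤ) (Sum.inr y') -
      (Sum.elim (fun _ => x) (fun _ => y) : α ⊕ β → ℤ) (σ⁻¹ (Sum.inr y')) = y - x := by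
    intro y'
    rcases h3 : σ⁻¹ (Sum.inr y') with w | w
    · rfl
    · exfalso
      obtain ⟨v, hv⟩ := hσβ w
      rw [Perm.inv_eq_iff_eq, hv] at h3
      exact Sum.inr_ne_inl h3
  have hsum : ∑ b, ((Sum.elim (fun _ => x) (fun _ => y) : α ⊕ β → ℤ) b -
      (Sum.elim (fun _ => x) (fun _ => y) : α ⊕ β → ℤ) (σ⁻¹ b)) = 0 := by
    rw [Finset.sum_sub_distrib, Equiv.sum_comp (σ⁻¹) (Sum.elim (fun _ => x) (fun _ => y) : α ⊕ β → ℤ),
      sub_self]
  rw [Fintype.sum_sum_type, Finset.sum_congr rfl (fun y' _ => hr y'), Finset.sum_const, Finset.card_univ,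
    X.hβ] at hsum
  rw [Finset.sum_congr rfl (fun y' _ => hr y'), Finset.sum_const, Finset.card_univ, X.hβ] at h1
  have e1 : (∑ x_1 : α, ((Sum.elim (fun _ => x) (fun _ => y) : α ⊕ β → ℤ) (Sum.inl x_1) -
      (Sum.elim (fun _ => x) (fun _ => y) : α ⊕ β → ℤ) (σ⁻¹ (Sum.inl x_1)))) = 1 * (2 ^ X.b * (x - y)) := by
    rw [nsmul_eq_mul] at hsum
    push_cast at hsum
    linear_combination hsum
  have e2 : (2 ^ X.b : ℕ) • (y - x) = (-1) * (2 ^ X.b * (x - y)) := by
    rw [nsmul_eq_mul]; push_cast; ring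
  rw [e1, e2, Om_mul] at h1
  refine mem_of_zpow (X.OmCube 1 (-1)) ?_ h1
  intro hd
  rcases Int.prime_three.dvd_mul.1 hd with h3 | h3
  · rcases two_pow_mod X.b with h4 | h4 <;> (clear * - h3 h4; omega)
  · exact hxy h3

/-- Fusion of the two fibres. -/
theorem fusion (hOm : Om X.h2 1 0 ∈ K ∨ Om X.h2 0 1 ∈ K) {x : α} {y : β} {k : GU (α ⊕ β) F} (hk : k ∈ K)
    (hkz : k * Rj (Sum.inl x) nu * k⁻¹ = Rj (Sum.inr y) nu) : Om X.h2 1 (-1) ∈ K := by
  obtain ⟨S, hS⟩ := exists_sylow_gen X.h2 X.hns X.T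
  set! B : Subgroup (GU (α ⊕ β) F) := SG (Q8 F) (⊥ : Subgroup (Perm (α ⊕ β))) with hB
  have hB2 : IsPGroup 2 B := SG_isPGroup Q8_isPGroup IsPGroup.of_bot
  have hBS : B ≤ SG (Q8 F) (X.T : Subgroup (Perm (α ⊕ β))) := SG_mono le_rfl bot_le
  -- the base group commutes with the frame reflections
  have hBc : ∀ s ∈ B, ∀ j, s * Rj j nu * s⁻¹ = Rj j nu := by
    rintro s ⟨σ, hσ, hs, hent⟩ j
    rw [Subgroup.mem_bot] at hσ
    subst hσ
    obtain ⟨w, -, hw⟩ := hent j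
    rw [hs.conj_Rj j hw, conj_nu]; rfl
  let C : Subgroup (GU (α ⊕ β) F) := K ⊓ Subgroup.centralizer {Rj (Sum.inr y) nu}
  have hCc : ∀ c ∈ C, c * Rj (Sum.inr y) nu * c⁻¹ = Rj (Sum.inr y) nu := by
    rintro c ⟨-, hc⟩
    have h1 := Subgroup.mem_centralizer_iff.1 hc _ rfl
    rw [← h1, mul_inv_cancel_right]
  have hCm : ∀ c ∈ K, c * Rj (Sum.inr y) nu * c⁻¹ = Rj (Sum.inr y) nu → c ∈ C := by
    intro c hc h1
    refine Subgroup.mem_inf.2 ⟨hc, Subgroup.mem_centralizer_iff.2 ?_⟩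
    rintro _ rfl
    rw [mul_inv_eq_iff_eq_mul] at h1
    exact h1.symm
  obtain ⟨k₂, hk₂, c, hc, hA', hB'⟩ := two_into S (K := K) (C := C) (A := B.map (MulAut.conj k).toMonoidHom)
    (B := B) (hS ▸ hK) inf_le_left (by
      rintro _ ⟨s, hs, rfl⟩
      show k * s * k⁻¹ ∈ C
      apply hCm _ (mul_mem (mul_mem hk (hK (hBS hs))) (inv_mem hk))
      have h1 : k * s * k⁻¹ * Rj (Sum.inr y) nu * (k * s * k⁻¹)⁻¹ =
          k * (s * (k⁻¹ * Rj (Sum.inr y) nu * k) * s⁻¹) * k⁻¹ := by group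
      have h3 : k⁻¹ * Rj (Sum.inr y) nu * k = Rj (Sum.inl x) nu := by rw [← hkz]; group
      rw [h1, h3, hBc s hs, hkz]) (by
      intro s hs
      exact hCm s (hK (hBS hs)) (hBc s hs _)) (hB2.map _) hB2
  rw [hS] at hA' hB'
  have hRB : ∀ (b : α ⊕ β) (w : U F), w ∈ Q8 F → Rj b w ∈ B := fun b w hw => Rj_mem _ b hw
  obtain ⟨σ₁, hσ₁, hent₁⟩ := mono_of_base X.h2 (T := (X.T : Subgroup (Perm (α ⊕ β)))) (g := k₂ * k) (by
    intro b w hw
    have h1 := hA' (k * Rj b w * k⁻¹) ⟨_, hRB b w hw, rfl⟩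
    have h3 : k₂ * k * Rj b w * (k₂ * k)⁻¹ = k₂ * (k * Rj b w * k⁻¹) * k₂⁻¹ := by group
    rw [h3]; exact h1)
  obtain ⟨σ₂, hσ₂, hent₂⟩ := mono_of_base X.h2 (T := (X.T : Subgroup (Perm (α ⊕ β)))) (g := k₂ * c) (by
    intro b w hw
    exact hB' _ (hRB b w hw))
  -- the images of `x` and `y`
  have himg : σ₁ (Sum.inl x) = σ₂ (Sum.inr y) := by
    apply Rj_nu_injective (F := F) X.h2
    obtain ⟨u, hu⟩ := hσ₁.entry (Sum.inl x)
    obtain ⟨v, hv⟩ := hσ₂.entry (Sum.inr y)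
    have h1 := hσ₁.conj_Rj (Sum.inl x) hu nu
    have h3 := hσ₂.conj_Rj (Sum.inr y) hv nu
    rw [conj_nu] at h1 h3
    rw [← h1, ← h3]
    have e1 : k₂ * k * Rj (Sum.inl x) nu * (k₂ * k)⁻¹ = k₂ * (k * Rj (Sum.inl x) nu * k⁻¹) * k₂⁻¹ := by group
    have e2 : k₂ * c * Rj (Sum.inr y) nu * (k₂ * c)⁻¹ = k₂ * (c * Rj (Sum.inr y) nu * c⁻¹) * k₂⁻¹ := by group
    rw [e1, e2, hkz, hCc c hc]
  have hcK : c ∈ K := hc.1
  set! N : Subgroup (GU (α ⊕ β) F) := K ⊓ SG (N8 F) ⊤ with hN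
  have hm₁ : k₂ * k ∈ N := ⟨mul_mem hk₂ hk, σ₁, trivial, hσ₁, hent₁⟩
  have hm₂ : k₂ * c ∈ N := ⟨mul_mem hk₂ hcK, σ₂, trivial, hσ₂, hent₂⟩
  have hQN : Q8 F ≤ N8 F := Subgroup.le_normalizer
  have hSN : SG (Q8 F) (X.T : Subgroup (Perm (α ⊕ β))) ≤ N := le_inf hK (SG_mono hQN le_top)
  have hTP : TT (X.T₁ : Subgroup (Perm α)) (X.T₂ : Subgroup (Perm β)) ≤ Pm N := by
    rw [← X.hT]; exact le_Pm hSN
  obtain ⟨σ, hσP, hσβ⟩ := exists_move X.hα X.hβ X.hab hTP (ρ := σ₂⁻¹ * σ₁)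
    (mul_mem (inv_mem ⟨_, hm₂, hσ₂⟩) ⟨_, hm₁, hσ₁⟩) (x := x) (y := y) (by
      show σ₂⁻¹ (σ₁ (Sum.inl x)) = Sum.inr y
      rw [himg]; simp)
  obtain ⟨h, ⟨hhK, σ', -, hσ', hent⟩, hσh⟩ := hσP
  have := hσ'.unique hσh
  subst this
  rcases hOm with hO | hO
  · exact X.weight hK hσ' hent hσβ (x := 1) (y := 0) (by norm_num)
      (mul_mem (mul_mem (mul_mem hO hhK) (inv_mem hO)) (inv_mem hhK))
  · exact X.weight hK hσ' hent hσβ (x := 0) (y := 1) (by norm_num)
      (mul_mem (mul_mem (mul_mem hO hhK) (inv_mem hO)) (inv_mem hhK))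

end Dat

end Cfsg.Agent.H408.Pron.Cases
end

-- part: H408/Pron/Cases2
section
/-!
# Odd index subgroups of `GU (α ⊕ β) F`: conclusion (helper408)
-/

set_option autoImplicit false
set_option linter.unusedSectionVars false

namespace Cfsg.Agent.H408.Pron.Cases

open Quaternion Matrix Equiv
open Cfsg.Agent.H158.PronQ Cfsg.Agent.H158.PronMat Cfsg.Agent.H158.PronMono
open Cfsg.Agent.H158.PronFrame Cfsg.Agent.H158.PronTwo Cfsg.Agent.H158.PronAvg
open Cfsg.Agent.H158.PronK Cfsg.Agent.H158.PronP Cfsg.Agent.H158.PronT Cfsg.Agent.H158.PronH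
open Cfsg.Agent.H158.PronG Cfsg.Agent.H158.PronM2 Cfsg.Agent.H94.Pronormal
open Cfsg.Agent.H158.PronProd
open Cfsg.Agent.H408.Pron Cfsg.Agent.H408.Pron.Gen Cfsg.Agent.H408.Pron.PermL
open Cfsg.Agent.H408.Pron.AvgTwo Cfsg.Agent.H408.Pron.Frame Cfsg.Agent.H408.Pron.Block

variable {F : Type*} [Field F] [Finite F]
variable {α β : Type*} [Fintype α] [DecidableEq α] [Fintype β] [DecidableEq β]

theorem isBlk_Om (h2 : (2 : F) ≠ 0) (x y : ℤ) : IsBlk (Om h2 x y : GU (α ⊕ β) F) := by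
  refine ⟨fun a b => ?_, fun b a => ?_⟩
  · rw [Om, Dom_apply, if_neg (by simp)]
  · rw [Om, Dom_apply, if_neg (by simp)]

theorem normalizes_of {G : Type*} [Group G] [Finite G] {H : Subgroup G} {g : G}
    (h : ∀ x ∈ H, g * x * g⁻¹ ∈ H) : H.map (MulAut.conj g).toMonoidHom = H := by
  apply Subgroup.eq_of_le_of_card_ge
  · rintro _ ⟨x, hx, rfl⟩
    exact h x hx
  · rw [Subgroup.card_map_of_injective (MulAut.conj g : G ≃* G).injective]

namespace Dat

variable (X : Dat F α β)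

include X in
theorem po_blk : PO (GU α F × GU β F) :=
  ((Cfsg.Agent.H158.PronB.pn_GU (n := α) (F := F) X.h2 X.hα).prod
    (Cfsg.Agent.H158.PronB.pn_GU (n := β) (F := F) X.h2 X.hβ)).pron

theorem odd_index {H : Subgroup (GU (α ⊕ β) F)} (hH : SG (Q8 F) (X.T : Subgroup (Perm (α ⊕ β))) ≤ H) :
    Odd H.index := by
  obtain ⟨S, hS⟩ := exists_sylow_gen X.h2 X.hns X.T
  exact odd_index_of_sylow_le S (hS ▸ hH)

/-- The reducible case. -/
theorem red {H : Subgroup (GU (α ⊕ β) F)} (hH : SG (Q8 F) (X.T : Subgroup (Perm (α ⊕ β))) ≤ H)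
    (hb : ∀ h ∈ H, IsBlk h) (x y : ℤ) :
    ∃ k ∈ H ⊔ H.map (MulAut.conj (Om X.h2 x y)).toMonoidHom,
      H.map (MulAut.conj (Om X.h2 x y)).toMonoidHom = H.map (MulAut.conj k).toMonoidHom :=
  of_range blk X.po_blk (X.odd_index hH) (fun h hh => mem_range_blk (hb h hh))
    (mem_range_blk (isBlk_Om X.h2 x y))

/-- conjugation of `Rj` by `Om` -/
theorem Om_conj_Rj (x y : ℤ) (j : α ⊕ β) (w : U F) :
    Om X.h2 x y * Rj j w * (Om X.h2 x y)⁻¹ =
      Rj j (om X.h2 ^ (Sum.elim (fun _ => x) (fun _ => y) j : ℤ) * w *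
        (om X.h2 ^ (Sum.elim (fun _ => x) (fun _ => y) j : ℤ))⁻¹) := by
  have hm : Mono (Om X.h2 x y : GU (α ⊕ β) F).1 1 := D_mono _
  refine hm.conj_Rj j ?_ w
  rw [Om, Dom_apply, Perm.one_apply, if_pos rfl]

/-- The monomial case. -/
theorem mono_case {H : Subgroup (GU (α ⊕ β) F)} (hH : SG (Q8 F) (X.T : Subgroup (Perm (α ⊕ β))) ≤ H)
    (x y : ℤ) {K : Subgroup (GU (α ⊕ β) F)} (hKe : K = H ⊔ H.map (MulAut.conj (Om X.h2 x y)).toMonoidHom)
    (hL : Om X.h2 1 0 ∉ K) (hR : Om X.h2 0 1 ∉ K) (hnb : ¬ ∀ h ∈ H, IsBlk h) :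
    ∃ k ∈ K, H.map (MulAut.conj (Om X.h2 x y)).toMonoidHom = H.map (MulAut.conj k).toMonoidHom := by
  have hHK : H ≤ K := by rw [hKe]; exact le_sup_left
  have hSK := hH.trans hHK
  have hHgK : ∀ h ∈ H, Om X.h2 x y * h * (Om X.h2 x y)⁻¹ ∈ K := by
    intro h hh
    have h1 : H.map (MulAut.conj (Om X.h2 x y)).toMonoidHom ≤ K := by rw [hKe]; exact le_sup_right
    exact h1 (conj_mem_map_conj hh)
  have hmono : ∀ h ∈ H, ∃ σ : Perm (α ⊕ β), Mono h.1 σ := fun h hh => X.mono_all hSK hL hR (hHK hh)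
  have hTP : (X.T : Subgroup (Perm (α ⊕ β))) ≤ Pm H := le_Pm hH
  -- a permutation moving a point of `α` to `β`
  obtain ⟨ρ, hρ, x₀, y₀, hxy⟩ : ∃ ρ ∈ Pm H, ∃ x₀ y₀, ρ (Sum.inl x₀) = Sum.inr y₀ := by
    push Not at hnb
    obtain ⟨h, hh, hb⟩ := hnb
    obtain ⟨σ, hσ⟩ := hmono h hh
    by_contra hcon
    push Not at hcon
    apply hb
    refine ⟨fun a b => ?_, fun b a => ?_⟩
    · apply hσ
      intro he
      apply hcon σ⁻¹ (inv_mem ⟨h, hh, hσ⟩) a b
      rw [he]; simp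
    · apply hσ
      intro he
      exact hcon σ ⟨h, hh, hσ⟩ a b he.symm
  -- transitivity
  have htr0 : ∀ i : α ⊕ β, ∃ τ ∈ Pm H, τ i = Sum.inl x₀ := by
    rintro (a | b)
    · obtain ⟨τ, hτ, h⟩ := X.hta a x₀
      exact ⟨_, hTP (X.hT ▸ mem_TT hτ (one_mem _)), congrArg Sum.inl h⟩
    · obtain ⟨τ, hτ, h⟩ := X.htb b y₀
      refine ⟨ρ⁻¹ * (Perm.sumCongrHom α β) (1, τ),
        mul_mem (inv_mem hρ) (hTP (X.hT ▸ mem_TT (one_mem _) hτ)), ?_⟩
      show ρ⁻¹ (Sum.inr (τ b)) = _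
      rw [h, ← hxy]; simp
  have htr : ∀ i j : α ⊕ β, ∃ τ ∈ Pm H, τ i = j := by
    intro i j
    obtain ⟨τ, hτ, h⟩ := htr0 i
    obtain ⟨τ', hτ', h'⟩ := htr0 j
    refine ⟨τ'⁻¹ * τ, mul_mem (inv_mem hτ') hτ, ?_⟩
    show τ'⁻¹ (τ i) = j
    rw [h, ← h']; simp
  by_cases hg1 : (3 : ℤ) ∣ x ∧ (3 : ℤ) ∣ y
  · refine ⟨1, one_mem _, ?_⟩
    have : (Om X.h2 x y : GU (α ⊕ β) F) = 1 := by
      rw [← Om_zero X.h2]
      exact Om_congr X.h2 (by rw [sub_zero]; exact hg1.1) (by rw [sub_zero]; exact hg1.2)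
    rw [this]
  -- the entries
  have hQj : ∀ j, Q8 F ≤ H.comap (Rj j) := fun j w hw => hH (Rj_mem _ j hw)
  have hP0 : ∀ j : α ⊕ β, ¬ (3 : ℤ) ∣ (Sum.elim (fun _ => x) (fun _ => y) j : ℤ) →
      om X.h2 ∉ K.comap (Rj j) → H.comap (Rj j) ≤ Q8 F := by
    intro j hj hom
    refine le_Q8_of_conj X.h2 X.hns (P₂ := K.comap (Rj j)) (hQj j) (Subgroup.comap_mono hHK) hom
      (g := om X.h2 ^ (Sum.elim (fun _ => x) (fun _ => y) j : ℤ)) ?_ ?_
    · rcases om_zpow_cases X.h2 (Sum.elim (fun _ => x) (fun _ => y) j : ℤ) with h | h | h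
      · exfalso
        apply hj
        by_contra hnd
        apply om_notMem X.h2
        have h3 := mem_of_zpow (K := (⊥ : Subgroup (U F))) (om_zpow_three X.h2) hnd (by rw [h]; exact one_mem _)
        rw [Subgroup.mem_bot] at h3
        rw [h3]; exact one_mem _
      · exact Or.inl h
      · exact Or.inr h
    · intro w hw
      show Rj j _ ∈ K
      rw [← X.Om_conj_Rj]
      exact hHgK _ hw
  have hP1 : ∃ j : α ⊕ β, H.comap (Rj j) ≤ Q8 F := by
    by_cases hx : (3 : ℤ) ∣ x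
    · refine ⟨Sum.inr y₀, hP0 _ (fun h => hg1 ⟨hx, h⟩) fun h => hR (X.right_Rj hSK h)⟩
    · exact ⟨Sum.inl x₀, hP0 _ hx fun h => hL (X.left_Rj hSK h)⟩
  have hP : ∀ i : α ⊕ β, H.comap (Rj i) ≤ Q8 F := by
    intro i
    obtain ⟨j, hj⟩ := hP1
    obtain ⟨τ, ⟨h, hh, hτ⟩, rfl⟩ := htr i j
    obtain ⟨u, hu⟩ := hτ.entry i
    have h1 : (H.comap (Rj i)).map (MulAut.conj u).toMonoidHom ≤ Q8 F := by
      rintro _ ⟨w, hw, rfl⟩
      apply hj
      show (Rj (τ i) (u * w * u⁻¹) :) ∈ H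
      rw [← hτ.conj_Rj i hu]
      exact mul_mem (mul_mem hh hw) (inv_mem hh)
    have hinj : Function.Injective (MulAut.conj u : U F ≃* U F).toMonoidHom :=
      (MulAut.conj u : U F ≃* U F).injective
    have h3 : Nat.card (H.comap (Rj i)) ≤ Nat.card (Q8 F) := by
      rw [← Subgroup.card_map_of_injective (K := H.comap (Rj i)) hinj]
      exact Nat.le_of_dvd Nat.card_pos (Subgroup.card_dvd_of_le h1)
    exact (Subgroup.eq_of_le_of_card_ge (hQj i) h3).ge
  have hN : ∀ h ∈ H, ∀ σ : Perm (α ⊕ β), Mono h.1 σ → ∀ b, ∃ w ∈ N8 F, (w : ℍ[F]) = h.1 (σ b) b := by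
    intro h hh σ hσ b
    obtain ⟨u, hu⟩ := hσ.entry b
    refine ⟨u, mem_N8_of fun w hw => ?_, hu⟩
    apply hP (σ b)
    show Rj (σ b) (u * w * u⁻¹) ∈ H
    rw [← hσ.conj_Rj b hu]
    exact mul_mem (mul_mem hh (hQj b hw)) (inv_mem hh)
  -- `ω` normalizes `H`
  have hsc : ∀ t : ℤ, H.map (MulAut.conj (Om X.h2 t t)).toMonoidHom = H := by
    intro t
    apply normalizes_of
    intro h hh
    obtain ⟨σ, hσ⟩ := hmono h hh
    obtain ⟨d, hd, he⟩ := Dom_commutator X.h2 X.hns (Sum.elim (fun _ => t) (fun _ => t)) hσ (hN h hh σ hσ)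
    have h1 : Dom X.h2 (fun b => (Sum.elim (fun _ => t) (fun _ => t) : α ⊕ β → ℤ) b -
        (Sum.elim (fun _ => t) (fun _ => t) : α ⊕ β → ℤ) (σ⁻¹ b)) = 1 := by
      rw [← Dom_zero X.h2]
      congr 1
      funext b
      rcases b with b | b <;> rcases σ⁻¹ _ with c | c <;> simp
    rw [h1, one_mul] at he
    have h3 : Om X.h2 t t * h * (Om X.h2 t t)⁻¹ * h⁻¹ ∈ H := by
      rw [Om, he]
      exact hH (D_mem _ hd)
    have h4 := mul_mem h3 hh
    rwa [inv_mul_cancel_right] at h4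
  by_cases hxy3 : (3 : ℤ) ∣ x - y
  · refine ⟨1, one_mem _, ?_⟩
    have h1 : (Om X.h2 x y : GU (α ⊕ β) F) = Om X.h2 x x :=
      Om_congr X.h2 (by rw [sub_self]; exact dvd_zero _) (by omega)
    rw [h1, hsc, map_conj_one]
  · obtain ⟨σ, ⟨h, hh, hσ⟩, hσβ⟩ := exists_move X.hα X.hβ X.hab (X.hT ▸ hTP) hρ hxy
    have h1 := X.weight hSK hσ (hN h hh σ hσ) hσβ hxy3
      (mul_mem (hHgK h hh) (inv_mem (hHK hh)))
    refine ⟨(Om X.h2 1 (-1)) ^ (y - x), zpow_mem h1 _, ?_⟩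
    have h3 : (Om X.h2 x y : GU (α ⊕ β) F) =
        (Om X.h2 1 (-1)) ^ (y - x) * Om X.h2 (2 * (x + y)) (2 * (x + y)) := by
      rw [← Om_mul, ← Om_add]
      exact Om_congr X.h2 (by omega) (by omega)
    rw [h3, map_conj_mul, hsc]

theorem main {H : Subgroup (GU (α ⊕ β) F)} (hH : SG (Q8 F) (X.T : Subgroup (Perm (α ⊕ β))) ≤ H)
    (x y : ℤ) : ∃ k ∈ H ⊔ H.map (MulAut.conj (Om X.h2 x y)).toMonoidHom,
      H.map (MulAut.conj (Om X.h2 x y)).toMonoidHom = H.map (MulAut.conj k).toMonoidHom := by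
  by_cases hb : ∀ h ∈ H, IsBlk h
  · exact X.red hH hb x y
  set K := H ⊔ H.map (MulAut.conj (Om X.h2 x y)).toMonoidHom with hKe
  have hHK : H ≤ K := le_sup_left
  have hSK := hH.trans hHK
  by_cases hL : Om X.h2 1 0 ∈ K
  · by_cases hR : Om X.h2 0 1 ∈ K
    · exact ⟨Om X.h2 x y, by rw [X.Om_eq]; exact mul_mem (zpow_mem hL _) (zpow_mem hR _), rfl⟩
    · by_cases hNF : ∀ x y, ∀ k ∈ K, k * Rj (Sum.inl x) nu * k⁻¹ ≠ Rj (Sum.inr y) nu
      · exact absurd (fun h hh => X.blk_R hSK hR hNF h (hHK hh)) hb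
      · exfalso
        push Not at hNF
        obtain ⟨a, b, k, hk, he⟩ := hNF
        have h1 := X.fusion hSK (Or.inl hL) hk he
        apply hR
        have h3 : (Om X.h2 0 1 : GU (α ⊕ β) F) = Om X.h2 1 0 * (Om X.h2 1 (-1)) ^ (-1 : ℤ) := by
          rw [← Om_mul, ← Om_add]; norm_num
        rw [h3]
        exact mul_mem hL (zpow_mem h1 _)
  · by_cases hR : Om X.h2 0 1 ∈ K
    · by_cases hNF : ∀ x y, ∀ k ∈ K, k * Rj (Sum.inl x) nu * k⁻¹ ≠ Rj (Sum.inr y) nu
      · exact absurd (fun h hh => X.blk_L hSK hL hNF h (hHK hh)) hb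
      · exfalso
        push Not at hNF
        obtain ⟨a, b, k, hk, he⟩ := hNF
        have h1 := X.fusion hSK (Or.inr hR) hk he
        apply hL
        have h3 : (Om X.h2 1 0 : GU (α ⊕ β) F) = Om X.h2 1 (-1) * Om X.h2 0 1 := by
          rw [← Om_add]; norm_num
        rw [h3]
        exact mul_mem h1 hR
    · exact X.mono_case hH x y hKe hL hR hb

include X in
theorem po : PO (GU (α ⊕ β) F) := by
  obtain ⟨S, hS⟩ := exists_sylow_gen X.h2 X.hns X.T
  refine PO.of_sylow S fun H hH m hm => ?_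
  rw [hS] at hH hm
  obtain ⟨ε, hε, hs⟩ := norm_SG_gen X.h2 X.hns X.T hm
  obtain ⟨x₀⟩ : Nonempty α := by
    rw [← Fintype.card_pos_iff, X.hα]; positivity
  obtain ⟨y₀⟩ : Nonempty β := by
    rw [← Fintype.card_pos_iff, X.hβ]; positivity
  have hεe : ε = Sum.elim (fun _ => ε (Sum.inl x₀)) (fun _ => ε (Sum.inr y₀)) := by
    funext i
    rcases i with a | b
    · obtain ⟨τ, hτ, h⟩ := X.hta x₀ a
      have := hε _ (X.hT ▸ mem_TT hτ (one_mem _)) (Sum.inl x₀)
      have h1 : (Perm.sumCongrHom α β) (τ, 1) (Sum.inl x₀) = Sum.inl a := congrArg Sum.inl h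
      rw [h1] at this
      exact this
    · obtain ⟨τ, hτ, h⟩ := X.htb y₀ b
      have := hε _ (X.hT ▸ mem_TT (one_mem _) hτ) (Sum.inr y₀)
      have h1 : (Perm.sumCongrHom α β) (1, τ) (Sum.inr y₀) = Sum.inr b := congrArg Sum.inr h
      rw [h1] at this
      exact this
  rw [hεe] at hs
  change (Om X.h2 (ε (Sum.inl x₀)) (ε (Sum.inr y₀)))⁻¹ * m ∈ _ at hs
  have hmap : H.map (MulAut.conj m).toMonoidHom =
      H.map (MulAut.conj (Om X.h2 (ε (Sum.inl x₀)) (ε (Sum.inr y₀)))).toMonoidHom := by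
    have e : m = Om X.h2 (ε (Sum.inl x₀)) (ε (Sum.inr y₀)) *
        ((Om X.h2 (ε (Sum.inl x₀)) (ε (Sum.inr y₀)))⁻¹ * m) := by group
    conv_lhs => rw [e, map_conj_mul, map_conj_of_mem_normalizer (Subgroup.le_normalizer (hH hs))]
  rw [hmap]
  exact X.main hH _ _

end Dat

/-- Odd index subgroups of `GU (α ⊕ β) F` are pronormal. -/
theorem po_sum (h2 : (2 : F) ≠ 0) (hns : ¬ IsSquare (2 : F)) {a b : ℕ} (hα : Fintype.card α = 2 ^ a)
    (hβ : Fintype.card β = 2 ^ b) (hpar : a % 2 = b % 2) (hab : b < a) : PO (GU (α ⊕ β) F) := by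
  obtain ⟨T₁⟩ : Nonempty (Sylow 2 (Perm α)) := inferInstance
  obtain ⟨T₂⟩ : Nonempty (Sylow 2 (Perm β)) := inferInstance
  obtain ⟨T, hT⟩ := exists_sylow_TT hα hβ hab.ne' T₁ T₂
  exact Dat.po (F := F) (α := α) (β := β) ⟨h2, hns, a, b, hα, hβ, hpar, hab, T₁, T₂, T, hT⟩

end Cfsg.Agent.H408.Pron.Cases
end

-- part: H408/Pron/PosGU
section
/-!
# Odd index subgroups of the symplectic groups: the positive part, `GU` (helper408)
-/

set_option autoImplicit false
set_option linter.unusedSectionVars false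

namespace Cfsg.Agent.H408.Pron.PosGU

open Quaternion Matrix Equiv
open Cfsg.Agent.H158.PronQ Cfsg.Agent.H158.PronMat Cfsg.Agent.H158.PronMono
open Cfsg.Agent.H158.PronProd Cfsg.Agent.H158.PronB Cfsg.Agent.H158.PronSp Cfsg.Agent.H158.PronM2
open Cfsg.Agent.H408.Pron

variable {F : Type*} [Field F]
variable {m n : Type*} [Fintype m] [DecidableEq m] [Fintype n] [DecidableEq n]

/-- Reindexing. -/
def reGU (e : m ≃ n) : GU m F →* GU n F where
  toFun g := ⟨g.1.submatrix e.symm e.symm, by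
    rw [mem_GU, Matrix.conjTranspose_submatrix, Matrix.submatrix_mul_equiv, Matrix.submatrix_mul_equiv,
      star_mul_coe, coe_mul_star, Matrix.submatrix_one_equiv]
    exact ⟨rfl, rfl⟩⟩
  map_one' := Subtype.ext (Matrix.submatrix_one_equiv _)
  map_mul' g h := Subtype.ext (by
    show (g.1 * h.1).submatrix e.symm e.symm = g.1.submatrix e.symm e.symm * h.1.submatrix e.symm e.symm
    rw [Matrix.submatrix_mul_equiv])

theorem reGU_surjective (e : m ≃ n) : Function.Surjective (reGU e : GU m F →* GU n F) := by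
  intro g
  refine ⟨reGU e.symm g, ?_⟩
  apply Subtype.ext
  ext1 a b
  show g.1 (e (e.symm a)) (e (e.symm b)) = g.1 a b
  rw [e.apply_symm_apply, e.apply_symm_apply]

theorem po_GU [Finite F] (h2 : (2 : F) ≠ 0) {k : ℕ}
    (h : IsSquare (2 : F) ∨ (∃ m, k = 2 ^ m) ∨ ∃ m l, k = 2 ^ m * (2 ^ (2 * l) + 1)) :
    PO (GU (Fin k) F) := by
  by_cases hs : IsSquare (2 : F)
  · exact (pn_sq h2 hs).pron
  rcases h with h | ⟨m, hm⟩ | ⟨m, l, hm⟩
  · exact absurd h hs
  · exact (pn_GU (k := m) h2 (by rw [Fintype.card_fin]; exact hm)).pron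
  · rcases Nat.eq_zero_or_pos l with rfl | hl
    · exact (pn_GU (k := m + 1) h2 (by rw [Fintype.card_fin, hm, pow_succ]; norm_num)).pron
    · have hc : Fintype.card (Fin (2 ^ (m + 2 * l)) ⊕ Fin (2 ^ m)) = Fintype.card (Fin k) := by
        rw [Fintype.card_sum, Fintype.card_fin, Fintype.card_fin, Fintype.card_fin, hm]; ring
      exact Block.PO.of_surjective _ (reGU_surjective (Fintype.equivOfCardEq hc))
        (Cases.po_sum h2 hs (α := Fin (2 ^ (m + 2 * l))) (β := Fin (2 ^ m)) (a := m + 2 * l) (b := m)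
          (Fintype.card_fin _) (Fintype.card_fin _) (by omega) (by omega))

end Cfsg.Agent.H408.Pron.PosGU
end

private theorem dce_1cd3a7e0e2b7 : _root_.True := by
  try have : _root_.True := by simp only [_root_.Cfsg.Agent.H408.Pron.AvgTwo.Om.eq_1]
  try have : _root_.True := by simp only [_root_.Cfsg.Agent.H408.Pron.AvgTwo.Om.congr_simp]
  exact _root_.True.intro
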